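import Groth.Agent.DecShLib.Basic
import Groth.Agent.QuotSchLib.RegBounded
import Groth.Agent.QuotSchLib.Src
import Groth.Agent.AmpleThLib.VeryAmple
import Groth.Agent.PnCohLib.EmbeddedVan
import Groth.Agent.CurveDualLib.Family
import Groth.Agent.MiscFlat6.TensorGG

/-!
# Boundedness from uniform vanishing on curves
-/

set_option autoImplicit false
set_option linter.style.haveILetI false
set_option maxHeartbeats 1000000
universe u

open CategoryTheory CategoryTheory.Limits AlgebraicGeometry Polynomial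
open StabLib HilbPolyLib DevissLib AmpleLib AmpleThLib

noncomputable section

namespace DecShLib

variable {k : Type u} [Field k] {X : Scheme.{u}} [X.Over (Spec (CommRingCat.of k))]
  [IsProper (X ↘ Spec (CommRingCat.of k))] {L : X.Modules}

omit [X.Over (Spec (CommRingCat.of k))] [IsProper (X ↘ Spec (CommRingCat.of k))] in
theorem nonempty_pow_pow (L : X.Modules) (N : ℕ) : ∀ l : ℕ,
    Nonempty (CohB1.tensorPow (CohB1.tensorPow L N) l ≅ CohB1.tensorPow L (N * l))
  | 0 => ⟨Iso.refl _⟩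
  | l + 1 => by
    obtain ⟨e⟩ := nonempty_pow_pow L N l
    obtain ⟨e'⟩ := IntMultLib.nonempty_tensorPow_add L (N * l) N
    exact ⟨HilbPolyLib.congrLeft e _ ≪≫ e'.symm ≪≫ eqToIso (by rw [Nat.mul_succ])⟩

variable (k) in
/-- A power of an ample module gives a closed embedding into projective space. -/
theorem exists_embedding (hA : CohB1.IsAmple L) :
    ∃ (N : ℕ) (_ : 0 < N) (n : ℕ) (ι : X ⟶ CohB1.ProjSpace n k), IsClosedImmersion ι ∧
      ι ≫ CohB1.ProjSpace.toSpec n k = X ↘ Spec (CommRingCat.of k) ∧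
      ∀ l : ℕ, Nonempty (CohB1.tensorPow L (N * l) ≅ (Scheme.Modules.pullback ι).obj (Twist.twistProjSpace n k (l : ℤ))) := by
  haveI := CurvLib.isNoetherian k (X := X)
  obtain ⟨n₀, hn₀⟩ := AmpleThLib.eventually_veryAmple (X ↘ Spec (CommRingCat.of k)) hA.1 hA
  obtain ⟨n, i, hi, hiq, ⟨φ⟩⟩ := hn₀ (n₀ + 1) (by omega)
  haveI := hi
  have hiq' : i ≫ CohB1.ProjSpaceOver.toBase n (Spec (CommRingCat.of k)) = X ↘ Spec (CommRingCat.of k) := hiq
  haveI : IsProper (i ≫ CohB1.ProjSpaceOver.toBase n (Spec (CommRingCat.of k))) := by rw [hiq']; infer_instance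
  haveI : IsSeparated (CohB1.ProjSpaceOver.toBase n (Spec (CommRingCat.of k))) := (ChowLib.isProper_toBase n _).toIsSeparated
  haveI : UniversallyClosed i := .of_comp_of_isSeparated i (CohB1.ProjSpaceOver.toBase n (Spec (CommRingCat.of k)))
  haveI : IsClosedImmersion i := IsClosedImmersion.of_isPreimmersion i i.isClosedMap.isClosed_range
  obtain ⟨j, hj, hd⟩ := PicPnLib.exists_square (n := n) (R := k) (𝟙 (Spec (CommRingCat.of k)))
  haveI : IsIso j := hj.isIso_fst_of_isIso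
  refine ⟨n₀ + 1, by omega, n, i ≫ inv j, inferInstance, ?_, fun l => ?_⟩
  · rw [← hiq', Category.assoc]
    congr 1
    rw [IsIso.inv_comp_eq, hj.w, Category.comp_id]
  · obtain ⟨e₁⟩ := nonempty_pow_pow L (n₀ + 1) l
    obtain ⟨e₂⟩ := PnCohLib.powTwist i l
    obtain ⟨e₄⟩ := hd (l : ℤ)
    exact ⟨e₁.symm ≪≫ (CurveDualLib.nonempty_tensorPow_congr φ l).some ≪≫ e₂ ≪≫
      (Scheme.Modules.pullbackCongr (show i = (i ≫ inv j) ≫ j by simp)).app _ ≪≫
      ((Scheme.Modules.pullbackComp (i ≫ inv j) j).app _).symm ≪≫ (Scheme.Modules.pullback (i ≫ inv j)).mapIso e₄⟩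

/-- Uniform vanishing makes the pushforwards quotients of one module. -/
theorem exists_quot_data (hdim : topologicalKrullDim X ≤ (1 : ℕ)) (hA : CohB1.IsAmple L) (P : ℚ[X]) (l₀ : ℕ)
    {N : ℕ} (hN : 0 < N) {n : ℕ} (ι : X ⟶ CohB1.ProjSpace n k) [IsClosedImmersion ι]
    (hι : ι ≫ CohB1.ProjSpace.toSpec n k = X ↘ Spec (CommRingCat.of k))
    (hO' : ∀ l : ℕ, Nonempty (CohB1.tensorPow L (N * l) ≅ (Scheme.Modules.pullback ι).obj (Twist.twistProjSpace n k (l : ℤ)))) :
    ∃ E₀ : (CohB1.ProjSpace n k).Modules, Coh.IsCoh E₀ ∧ ∀ E : X.Modules, Coh.IsCoh E →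
      StabLib.HPoly k L E = P → (∀ l : ℕ, l₀ ≤ l → Subsingleton (Coh.HH X ((CurveBddLib.tw L l).obj E) 1)) →
        Coh.IsCoh ((Scheme.Modules.pushforward ι).obj E) ∧
        (∃ p : E₀ ⟶ (Scheme.Modules.pushforward ι).obj E, Epi p) ∧
        ∀ t : ℤ, (MumfordLib.chi k ((Scheme.Modules.pushforward ι).obj E) t : ℚ) =
          (P.comp (Polynomial.C (N : ℚ) * Polynomial.X)).eval (t : ℚ) := by
  haveI := CurvLib.isNoetherian k (X := X)
  let P' : ℚ[X] := P.comp (Polynomial.C (N : ℚ) * Polynomial.X)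
  let Pn := CohB1.ProjSpace n k
  let O' := Twist.twistProjSpace n k
  let G := Scheme.Modules.pushforward ι
  haveI := MumfordLib.isProper_projSpace (n := n) k
  let m : ℤ := (l₀ : ℤ) + 1
  obtain ⟨E₀, hE₀, hEq⟩ := QuotSchLib.exists_quot_of_regular k n m P'
  refine ⟨E₀, hE₀, fun E hEc hPoly hvan => ?_⟩
  haveI := hEc.1
  have hM : Coh.IsCoh (G.obj E) := by
    haveI : IsLocallyNoetherian Pn := (CurvLib.isNoetherian k (X := Pn)).toIsLocallyNoetherian
    exact QCohLib.isCoh_push_finite ι E hEc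
  have hiso : ∀ d : ℤ, Nonempty (CohB1.tensorMod (G.obj E) (O' d) ≅ G.obj (Pic13.twistOn k ι E d)) := fun d => by
    have hLf : FlatMod.IsFinLocFree (O' d) :=
      CurveVBLib.isFinLocFree_of_rank (CurvLib.locFree_of_isInvertible (PicPnLib.twist_inv n k d))
    exact ⟨HilbPolyLib.swapIso _ _ ≪≫ @asIso _ _ _ _ (ProjFormLib.projApp ι (O' d) E) (ProjFormLib.isIso_projApp ι hLf E) ≪≫
      G.mapIso (HilbPolyLib.swapIso _ _)⟩
  have hq' : ∀ d : ℤ, Coh.IsQCoh (Pic13.twistOn k ι E d) := fun d =>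
    MiscFlat6.isQCoh_tensor (AmpleDevLib.isInvertible_pb ι (PicPnLib.twist_inv n k d))
  have hMreg : Curv2.IsMRegular k n (G.obj E) m := fun j hj _ => by
    haveI := hq' (m - j)
    obtain ⟨e⟩ := hiso (m - j)
    obtain ⟨E'⟩ := QCohLib.nonempty_HH_push ι (Pic13.twistOn k ι E (m - j)) j
    refine SerreVanLib.subsingleton_HH_of_iso e j ?_
    haveI : Subsingleton (Coh.HH X (Pic13.twistOn k ι E (m - j)) j) := by
      rcases (show j = 1 ∨ 2 ≤ j by omega) with rfl | hj2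
      · rw [show m - ((1 : ℕ) : ℤ) = (l₀ : ℤ) by push_cast; ring]
        exact SerreVanLib.subsingleton_HH_of_iso (HilbPolyLib.congrRight E (hO' l₀).some.symm ≪≫ HilbPolyLib.swapIso _ _) 1
          (hvan (N * l₀) (Nat.le_mul_of_pos_left _ hN))
      · exact CurveBddLib.vanish_two (k := k) hdim _ j hj2
    first
    | exact E'.toEquiv.subsingleton
    | exact E'.symm.toEquiv.subsingleton
  have hMchi : ∀ t : ℤ, (MumfordLib.chi k (G.obj E) t : ℚ) = P'.eval (t : ℚ) := by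
    obtain ⟨Ψ, hΨ⟩ := QuotSchLib.exists_chi_field k n hM
    suffices h : Ψ = P' by rw [← h]; exact hΨ
    refine Polynomial.eq_of_infinite_eval_eq Ψ P' (Set.infinite_of_injective_forall_mem (f := fun t : ℕ => (t : ℚ))
      Nat.cast_injective fun t => ?_)
    show Ψ.eval ((t : ℕ) : ℚ) = P'.eval ((t : ℕ) : ℚ)
    haveI := hq' (t : ℤ)
    rw [show P'.eval (t : ℚ) = P.eval ((N * t : ℕ) : ℚ) by simp [P'], ← hPoly,
      ← StabLib.hPoly_spec (k := k) hA hEc (N * t)]
    show _ = (Curv2.euler k X (CohB1.tensorMod E (CohB1.tensorPow L (N * t))) : ℚ)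
    rw [CurvLib.euler_congr (HilbPolyLib.congrRight E (hO' t).some)]
    show _ = (Curv2.euler k X (Pic13.twistOn k ι E t) : ℚ)
    rw [(PushLinLib.euler_push k ι hι (Pic13.twistOn k ι E t)).2,
      ← CurvLib.euler_congr (k := k) (hiso t).some, ← MumfordLib.chi_eq_euler, hΨ t, Int.cast_natCast]
  exact ⟨hM, hEq _ hM hMreg hMchi, hMchi⟩

variable (k) in
/-- A family with finitely many Hilbert polynomials and uniform vanishing is bounded. -/
theorem isBounded_of_vanishing_set (hdim : topologicalKrullDim X ≤ (1 : ℕ)) (hA : CohB1.IsAmple L) (s : Finset ℚ[X]) (l₀ : ℕ)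
    {pred : X.Modules → Prop}
    (h : ∀ E, pred E → Coh.IsCoh E ∧ StabLib.HPoly k L E ∈ s ∧
      ∀ l : ℕ, l₀ ≤ l → Subsingleton (Coh.HH X ((CurveBddLib.tw L l).obj E) 1)) :
    Pic13.IsBounded k X pred := by
  haveI := CurvLib.isNoetherian k (X := X)
  obtain ⟨N, hN, n, ι, hci, hι, hO'⟩ := exists_embedding k hA
  haveI := hci
  classical
  obtain ⟨E₀, hE₀, hdata⟩ : ∃ E₀ : (CohB1.ProjSpace n k).Modules, Coh.IsCoh E₀ ∧ ∀ P ∈ s, ∀ E : X.Modules, Coh.IsCoh E →
      StabLib.HPoly k L E = P → (∀ l : ℕ, l₀ ≤ l → Subsingleton (Coh.HH X ((CurveBddLib.tw L l).obj E) 1)) →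
        Coh.IsCoh ((Scheme.Modules.pushforward ι).obj E) ∧
        (∃ p : E₀ ⟶ (Scheme.Modules.pushforward ι).obj E, Epi p) ∧
        ∀ t : ℤ, (MumfordLib.chi k ((Scheme.Modules.pushforward ι).obj E) t : ℚ) =
          (P.comp (Polynomial.C (N : ℚ) * Polynomial.X)).eval (t : ℚ) := by
    clear h
    induction s using Finset.induction_on with
    | empty => exact ⟨Coh.structureModule _, DevissLib.isCoh_structureModule _, fun P hP => by simp at hP⟩
    | insert P₀ s hP₀ ih =>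
      obtain ⟨A, hAc, hdA⟩ := exists_quot_data (k := k) hdim hA P₀ l₀ hN ι hι hO'
      obtain ⟨B, hBc, hdB⟩ := ih
      haveI : IsLocallyNoetherian (CohB1.ProjSpace n k) := by
        haveI := MumfordLib.isProper_projSpace (n := n) k
        exact (CurvLib.isNoetherian k (X := CohB1.ProjSpace n k)).toIsLocallyNoetherian
      refine ⟨A ⊞ B, DevissLib.isCoh_biprod hAc hBc, fun P hP E hE hPol hv => ?_⟩
      rcases Finset.mem_insert.1 hP with rfl | hP
      · obtain ⟨h1, ⟨p, hp⟩, h3⟩ := hdA E hE hPol hv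
        exact ⟨h1, ⟨biprod.fst ≫ p, @epi_comp _ _ _ _ _ biprod.fst inferInstance p hp⟩, h3⟩
      · obtain ⟨h1, ⟨p, hp⟩, h3⟩ := hdB P hP E hE hPol hv
        exact ⟨h1, ⟨biprod.snd ≫ p, @epi_comp _ _ _ _ _ biprod.snd inferInstance p hp⟩, h3⟩
  let Pn := CohB1.ProjSpace n k
  let G := Scheme.Modules.pushforward ι
  haveI := MumfordLib.isProper_projSpace (n := n) k
  obtain ⟨T, q, hT, hq, F, hF, hcl⟩ := QuotSchLib.isBounded_quotients k n E₀ hE₀
    (s.image fun P : ℚ[X] => P.comp (Polynomial.C (N : ℚ) * Polynomial.X))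
  let pX : Pic13.prodK k X q ⟶ Pic13.prodK k Pn q :=
    pullback.map _ _ _ _ ι (𝟙 T) (𝟙 _) ((Category.comp_id _).trans hι.symm) (by rw [Category.id_comp, Category.comp_id])
  refine ⟨T, q, hT, hq, KFlatLib.pb pX F, ConsLib.isCoh_pullback _ hF, fun E hE => ?_⟩
  obtain ⟨hEc, hPoly, hvan⟩ := h E hE
  obtain ⟨hM, hp, hMchi⟩ := hdata _ hPoly E hEc rfl hvan
  obtain ⟨t, ht, ⟨e⟩⟩ := hcl (G.obj E) ⟨hM, hp, _, Finset.mem_image_of_mem _ hPoly, hMchi⟩
  refine ⟨t, ht, ?_⟩
  have hs : Pic13.sliceAt k X q t ht ≫ pX = ι ≫ Pic13.sliceAt k Pn q t ht := by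
    apply pullback.hom_ext
    · simp only [Category.assoc, pX, Pic13.sliceAt, pullback.map, pullback.lift_fst]
      rw [pullback.lift_fst_assoc, Category.id_comp]
      exact (Category.comp_id ι).symm
    · simp only [Category.assoc, pX, Pic13.sliceAt, pullback.map, pullback.lift_snd]
      rw [pullback.lift_snd_assoc, Category.assoc, Category.comp_id]
      exact (congrArg (· ≫ t) hι).symm.trans (Category.assoc _ _ _)
  haveI : IsIso ((Scheme.Modules.pullbackPushforwardAdjunction ι).counit.app E) := CycKSuppLib.isIso_counit ι E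
  exact ⟨(Scheme.Modules.pullbackComp _ pX).app F ≪≫ (Scheme.Modules.pullbackCongr hs).app F ≪≫
    ((Scheme.Modules.pullbackComp ι (Pic13.sliceAt k Pn q t ht)).app F).symm ≪≫
      (Scheme.Modules.pullback ι).mapIso e ≪≫ asIso ((Scheme.Modules.pullbackPushforwardAdjunction ι).counit.app E)⟩


variable (k) in
/-- A family with fixed Hilbert polynomial and uniform vanishing is bounded. -/
theorem isBounded_of_vanishing (hdim : topologicalKrullDim X ≤ (1 : ℕ)) (hA : CohB1.IsAmple L) (P : ℚ[X]) (l₀ : ℕ)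
    {pred : X.Modules → Prop}
    (h : ∀ E, pred E → Coh.IsCoh E ∧ StabLib.HPoly k L E = P ∧
      ∀ l : ℕ, l₀ ≤ l → Subsingleton (Coh.HH X ((CurveBddLib.tw L l).obj E) 1)) :
    Pic13.IsBounded k X pred :=
  isBounded_of_vanishing_set k hdim hA {P} l₀ fun E hE =>
    ⟨(h E hE).1, Finset.mem_singleton.2 (h E hE).2.1, (h E hE).2.2⟩

variable (k) in
/-- Twists of a family with uniform vanishing are uniformly globally generated. -/
theorem exists_gg_of_vanishing (hdim : topologicalKrullDim X ≤ (1 : ℕ)) (hA : CohB1.IsAmple L) (P : ℚ[X]) (l₀ : ℕ) :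
    ∃ n₁ : ℕ, ∀ E : X.Modules, Coh.IsCoh E → StabLib.HPoly k L E = P →
      (∀ l : ℕ, l₀ ≤ l → Subsingleton (Coh.HH X ((CurveBddLib.tw L l).obj E) 1)) →
      ∀ l : ℕ, n₁ ≤ l → Curv2.IsGloballyGenerated (CohB1.tensorMod E (CohB1.tensorPow L l)) := by
  haveI := CurvLib.isNoetherian k (X := X)
  obtain ⟨N, hN, n, ι, hci, hι, hO'⟩ := exists_embedding k hA
  haveI := hci
  obtain ⟨E₀, hE₀, hdata⟩ := exists_quot_data (k := k) hdim hA P l₀ hN ι hι hO'
  let M₀ : X.Modules := (Scheme.Modules.pullback ι).obj E₀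
  obtain ⟨n₁, hn₁⟩ := MiscFlat6.eventually_gg_of_isAmple hA M₀ (ConsLib.isCoh_pullback _ hE₀)
  refine ⟨n₁, fun E hEc hPoly hvan l hl => ?_⟩
  obtain ⟨-, ⟨p, hp⟩, -⟩ := hdata E hEc hPoly hvan
  haveI := hp
  haveI := hEc.1
  haveI : IsIso ((Scheme.Modules.pullbackPushforwardAdjunction ι).counit.app E) := CycKSuppLib.isIso_counit ι E
  haveI : (Scheme.Modules.pullback ι).IsLeftAdjoint := ⟨_, ⟨Scheme.Modules.pullbackPushforwardAdjunction ι⟩⟩
  let π : M₀ ⟶ E := (Scheme.Modules.pullback ι).map p ≫ (Scheme.Modules.pullbackPushforwardAdjunction ι).counit.app E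
  haveI : Epi π := epi_comp _ _
  have hP := tensorPow_isInvertible hA.1 l
  obtain ⟨e⟩ := MiscFlat6.nonempty_dualIso hP
  haveI : (CurvLib.tensorLeft' (CohB1.tensorPow L l)).IsEquivalence :=
    VBP1Lib.isEquivalence_tensor (L := CohB1.tensorPow L l) (M := MiscFlat6.dual (CohB1.tensorPow L l)) e
  haveI : (CurvLib.tensorLeft' (CohB1.tensorPow L l)).IsLeftAdjoint := Functor.isLeftAdjoint_of_isEquivalence
  let φ : CohB1.tensorMod M₀ (CohB1.tensorPow L l) ⟶ CohB1.tensorMod E (CohB1.tensorPow L l) :=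
    (HilbPolyLib.swapIso _ _).hom ≫ (CurvLib.tensorLeft' (CohB1.tensorPow L l)).map π ≫ (HilbPolyLib.swapIso _ _).hom
  have h1 : Epi ((CurvLib.tensorLeft' (CohB1.tensorPow L l)).map π) :=
    (CurvLib.tensorLeft' (CohB1.tensorPow L l)).map_epi π
  have h2 : Epi φ := @epi_comp _ _ _ _ _ _ inferInstance _ (@epi_comp _ _ _ _ _ _ h1 _ inferInstance)
  obtain ⟨σ, g, hg⟩ := hn₁ l hl
  exact ⟨σ, g ≫ φ, @epi_comp _ _ _ _ _ g hg φ h2⟩

variable (k) in
/-- A family with fixed invariants and bounded below quotient slopes is bounded. -/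
theorem isBounded_of_good (hdim : topologicalKrullDim X ≤ (1 : ℕ)) (hA : CohB1.IsAmple L) (α e : ℤ) (c : ℤ)
    {pred : X.Modules → Prop}
    (h : ∀ E, pred E → CurveBddLib.Good k L c E ∧ DecSh.mult k X L E = α ∧ Curv2.euler k X E = e) :
    Pic13.IsBounded k X pred := by
  obtain ⟨l₀, hl₀⟩ := CurveBddLib.exists_vanishing (k := k) hdim hA c α.toNat
  refine isBounded_of_vanishing k hdim hA (Polynomial.C (α : ℚ) * Polynomial.X + Polynomial.C (e : ℚ)) l₀
    fun E hE => ?_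
  obtain ⟨hg, hα, he⟩ := h E hE
  have hm : CurveBddLib.mult k L E = (α : ℚ) := by rw [← mult_eq hdim hA hg.1, hα]
  refine ⟨hg.1, ?_, fun l hl => hl₀ E hg (by rw [hm]; exact_mod_cast Int.self_le_toNat α) l hl⟩
  refine Polynomial.funext fun t => ?_
  rw [CurveBddLib.eval_eq (k := k) hdim hA hg.1, coeff_zero_eq hdim hA hg.1, he, hm]
  simp [add_comm]

variable (k) in
/-- A family with finitely many invariants and bounded below quotient slopes is bounded. -/
theorem isBounded_of_good_set (hdim : topologicalKrullDim X ≤ (1 : ℕ)) (hA : CohB1.IsAmple L) (A : ℕ) (lo hi c : ℤ)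
    {pred : X.Modules → Prop}
    (h : ∀ E, pred E → CurveBddLib.Good k L c E ∧ DecSh.mult k X L E ≤ (A : ℤ) ∧
      lo ≤ Curv2.euler k X E ∧ Curv2.euler k X E ≤ hi) :
    Pic13.IsBounded k X pred := by
  classical
  obtain ⟨l₀, hl₀⟩ := CurveBddLib.exists_vanishing (k := k) hdim hA c A
  refine isBounded_of_vanishing_set k hdim hA
    ((Finset.Icc (0 : ℤ) (A : ℤ) ×ˢ Finset.Icc lo hi).image fun p : ℤ × ℤ =>
      Polynomial.C (p.1 : ℚ) * Polynomial.X + Polynomial.C (p.2 : ℚ)) l₀ fun E hE => ?_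
  obtain ⟨hg, hα, h1, h2⟩ := h E hE
  refine ⟨hg.1, Finset.mem_image.2 ⟨(DecSh.mult k X L E, Curv2.euler k X E), Finset.mem_product.2
    ⟨Finset.mem_Icc.2 ⟨mult_nonneg (k := k) hdim hA hg.1, hα⟩, Finset.mem_Icc.2 ⟨h1, h2⟩⟩, ?_⟩,
    fun l hl => hl₀ E hg ?_ l hl⟩
  · refine Polynomial.funext fun t => ?_
    rw [CurveBddLib.eval_eq (k := k) hdim hA hg.1, coeff_zero_eq hdim hA hg.1, ← mult_eq hdim hA hg.1]
    simp [add_comm]
  · rw [← mult_eq hdim hA hg.1]
    exact_mod_cast hα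

/-- A bound on subsheaves bounds quotients. -/
theorem good_of_bound (hdim : topologicalKrullDim X ≤ (1 : ℕ)) (hA : CohB1.IsAmple L) [IsReduced X]
    (hpure : ∀ x : X, ¬ IsOpen ({x} : Set X)) {E : X.Modules} (hE : Coh.IsCoh E) (htf : TorSh.IsTorsionFree E)
    {M : ℚ} (hM : 0 ≤ M)
    (h : ∀ (F : X.Modules) (ι : F ⟶ E), Mono ι → Coh.IsCoh F → ¬ IsZero F → ¬ IsIso ι →
      (DecSh.mult k X L E : ℚ) * (Curv2.euler k X F : ℚ) - (DecSh.mult k X L F : ℚ) * (Curv2.euler k X E : ℚ) ≤ M)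
    {c : ℤ} (hc : (c : ℚ) * (DecSh.mult k X L E : ℚ) ≤ (Curv2.euler k X E : ℚ) - M) :
    CurveBddLib.Good k L c E := by
  haveI := CurvLib.isNoetherian k (X := X)
  refine ⟨hE, fun Q π hπ hQ hpos => ?_⟩
  haveI := hπ
  rw [coeff_zero_eq hdim hA hQ, ← mult_eq hdim hA hQ]
  rw [← mult_eq hdim hA hQ] at hpos
  let K := kernel π
  have hK : Coh.IsCoh K := QCohLib.isCoh_kernel π hE hQ.1
  have hS : (ShortComplex.mk (kernel.ι π) π (kernel.condition π)).ShortExact :=
    ShortComplex.ShortExact.mk (ShortComplex.exact_kernel π)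
  have hadd0 := mult_add' (k := k) hdim hA hS hK hE hQ
  dsimp only at hadd0
  have hadd : (DecSh.mult k X L E : ℚ) = DecSh.mult k X L K + DecSh.mult k X L Q := by
    rw [hadd0, Int.cast_add]
  have hP0 := StabLib.hPoly_add (k := k) hA hS hK hE hQ
  dsimp only at hP0
  have hχ : (Curv2.euler k X E : ℚ) = Curv2.euler k X K + Curv2.euler k X Q := by
    rw [← coeff_zero_eq (k := k) hdim hA hE, ← coeff_zero_eq (k := k) hdim hA hK, ← coeff_zero_eq (k := k) hdim hA hQ,
      hP0, Polynomial.coeff_add]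
  have hK0 : (0 : ℚ) ≤ (DecSh.mult k X L K : ℚ) := by exact_mod_cast mult_nonneg (k := k) hdim hA hK
  have hQ1 : (1 : ℚ) ≤ (DecSh.mult k X L Q : ℚ) := by
    have : 0 < DecSh.mult k X L Q := by exact_mod_cast hpos
    exact_mod_cast this
  have hb : (DecSh.mult k X L E : ℚ) * (Curv2.euler k X K : ℚ) - (DecSh.mult k X L K : ℚ) * (Curv2.euler k X E : ℚ) ≤ M := by
    by_cases h0 : IsZero K
    · rw [← coeff_zero_eq (k := k) hdim hA hK, mult_eq hdim hA hK, CurveBddLib.mult, StabLib.hPoly_zero hA h0]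
      simpa [StabCat.alpha] using hM
    · refine h K (kernel.ι π) inferInstance hK h0 fun hi => ?_
      have : π = 0 := by rw [← cancel_epi (kernel.ι π), kernel.condition, Limits.comp_zero]
      have hQz : IsZero Q := (IsZero.iff_id_eq_zero _).2 (by rw [← cancel_epi π, Category.comp_id, this, Limits.zero_comp])
      rw [mult_eq hdim hA hQ, CurveBddLib.mult, StabLib.hPoly_zero hA hQz] at hpos
      simp [StabCat.alpha] at hpos
  have hEpos : (0 : ℚ) < (DecSh.mult k X L E : ℚ) := by linarith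
  have hMQ : M ≤ M * (DecSh.mult k X L Q : ℚ) := le_mul_of_one_le_right hM hQ1
  refine le_of_mul_le_mul_right ?_ hEpos
  have h1 := mul_le_mul_of_nonneg_right hc (le_trans zero_le_one hQ1)
  have hb' : (DecSh.mult k X L Q : ℚ) * (Curv2.euler k X K : ℚ) -
      (DecSh.mult k X L K : ℚ) * (Curv2.euler k X Q : ℚ) ≤ M := by
    rw [hadd, hχ] at hb
    linarith
  have e1 : (Curv2.euler k X E : ℚ) * (DecSh.mult k X L Q : ℚ) =
      (Curv2.euler k X K : ℚ) * DecSh.mult k X L Q + (Curv2.euler k X Q : ℚ) * DecSh.mult k X L Q := by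
    rw [hχ]; ring
  have e2 : (Curv2.euler k X Q : ℚ) * (DecSh.mult k X L E : ℚ) =
      (Curv2.euler k X Q : ℚ) * DecSh.mult k X L K + (Curv2.euler k X Q : ℚ) * DecSh.mult k X L Q := by
    rw [hadd]; ring
  linarith

end DecShLib
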