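import Groth.Agent.CurveBddLib.Main
import Groth.Agent.S6295
import Groth.Prelude.Def_DecSh2
import Groth.Prelude.Def_TorSh
import Mathlib.RingTheory.Ideal.Operations

/-!
# Multiplicities of torsion free sheaves on reduced curves
-/

set_option autoImplicit false
set_option linter.style.haveILetI false
set_option maxHeartbeats 1000000
universe u

open CategoryTheory CategoryTheory.Limits AlgebraicGeometry TopologicalSpace Opposite
open StabLib HilbPolyLib DevissLib AmpleLib AmpleThLib CurveBddLib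

noncomputable section

namespace DecShLib

variable {X : Scheme.{u}}

/-- An associated point of a torsion free module on a reduced scheme is a generic point. -/
theorem eq_of_specializes_asso [IsLocallyNoetherian X] [IsReduced X] {E : X.Modules}
    (htf : TorSh.IsTorsionFree E) {η : X} (h : DevissLib.Asso E η) {z : X} (hz : z ⤳ η) : z = η := by
  obtain ⟨a, ha, hk⟩ := h
  let R := X.presheaf.stalk η
  have : Module.IsTorsionFree R (E.presheaf.stalk η) := htf η
  have hm : ∀ r ∈ IsLocalRing.maximalIdeal R, r ∉ nonZeroDivisors R := fun r hr hnz =>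
    ha ((Module.IsTorsionFree.isSMulRegular (M := E.presheaf.stalk η)
      (isRegular_iff_mem_nonZeroDivisors.2 hnz)).right_eq_zero_of_smul (hk r hr))
  have hfin := minimalPrimes.finite_of_isNoetherianRing R
  obtain ⟨p, hp, hle⟩ := (Ideal.subset_union_prime_finite hfin ⊥ ⊥
    (fun p hp _ _ => Ideal.minimalPrimes_isPrime hp) (I := IsLocalRing.maximalIdeal R)).1 (fun r hr => by
      obtain ⟨p, hp, hrp⟩ := ((Groth.Agent.S6295.result R).2.2 r).1 (hm r hr)
      exact Set.mem_biUnion hp hrp)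
  haveI : Ring.KrullDimLE 0 R := by
    refine Ring.krullDimLE_zero_iff.2 fun q hq => ?_
    have h1 : q ≤ IsLocalRing.maximalIdeal R := IsLocalRing.le_maximalIdeal hq.ne_top
    have h2 : IsLocalRing.maximalIdeal R ≤ q := hle.trans (hp.2 ⟨hq, bot_le⟩ (h1.trans hle))
    rw [le_antisymm h1 h2]
    exact IsLocalRing.maximalIdeal.isMaximal R
  have h1 : z ∈ Set.range (X.fromSpecStalk η) := by rw [Scheme.range_fromSpecStalk]; exact hz
  obtain ⟨w, rfl⟩ := h1
  have hw : w = IsLocalRing.closedPoint R := by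
    haveI : Subsingleton (PrimeSpectrum R) := Ring.KrullDimLE.subsingleton_primeSpectrum _
    exact Subsingleton.elim (α := PrimeSpectrum R) w _
  rw [hw]
  exact Scheme.fromSpecStalk_closedPoint

/-- A torsion free module on a reduced curve without open points is pure of dimension one. -/
theorem isPure_of_torsionFree [IsNoetherian X] [IsReduced X] (hdim : topologicalKrullDim X ≤ (1 : ℕ))
    (hpure : ∀ x : X, ¬ IsOpen ({x} : Set X)) {E : X.Modules} (htf : TorSh.IsTorsionFree E) :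
    ShStab.IsPure X E 1 := by
  intro F ι hι hF hF0
  refine le_antisymm ((topologicalKrullDim_subspace_le X _).trans hdim) ?_
  obtain ⟨x, hx⟩ : (CohB1.support F).Nonempty := Set.nonempty_iff_ne_empty.2 fun h => hF0 (isZero_of_support_empty h)
  obtain ⟨η, hη⟩ := DevissLib.exists_asso hF hx
  have hgen := fun z => eq_of_specializes_asso htf (hη.of_mono ι) (z := z)
  have hηF := hη.mem_support
  by_contra hlt
  have hlt' : topologicalKrullDim (CohB1.support F) < ((1 : ℕ) : WithBot ℕ∞) := not_le.1 hlt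
  -- `η` is open
  refine hpure η ?_
  have hcl : IsClosed (CohB1.support F) := QCohLib.isClosed_support F hF.2
  haveI : QuasiSober (CohB1.support F) := hcl.isClosedEmbedding_subtypeVal.quasiSober
  -- every specialization of `η` is `η`
  have hspec : ∀ y : X, η ⤳ y → y = η := by
    intro y hy
    by_contra hne
    have hyF : y ∈ CohB1.support F := hy.mem_closed hcl hηF
    let Z₁ : IrreducibleCloseds (CohB1.support F) :=
      ⟨closure {(⟨y, hyF⟩ : CohB1.support F)}, isIrreducible_singleton.closure, isClosed_closure⟩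
    let Z₂ : IrreducibleCloseds (CohB1.support F) :=
      ⟨closure {(⟨η, hηF⟩ : CohB1.support F)}, isIrreducible_singleton.closure, isClosed_closure⟩
    have h12 : Z₁ < Z₂ := by
      refine lt_of_le_of_ne ?_ fun h => hne ?_
      · exact closure_minimal (Set.singleton_subset_iff.2
          (specializes_iff_mem_closure.1 (Topology.IsInducing.subtypeVal.specializes_iff.1 hy))) isClosed_closure
      · have h2 : (⟨η, hηF⟩ : CohB1.support F) ∈ closure {(⟨y, hyF⟩ : CohB1.support F)} := by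
          change (⟨η, hηF⟩ : CohB1.support F) ∈ (Z₁ : Set (CohB1.support F))
          rw [h]
          exact subset_closure rfl
        exact hgen y (Topology.IsInducing.subtypeVal.specializes_iff.2 (specializes_iff_mem_closure.2 h2))
    refine absurd hlt' (not_lt.2 ?_)
    simp only [Nat.cast_one]
    exact Order.one_le_krullDim_iff.2 ⟨Z₁, Z₂, h12⟩
  -- hence the complement of `η` is a finite union of components
  have hfinC : (irreducibleComponents X).Finite := NoetherianSpace.finite_irreducibleComponents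
  have heq : ({η}ᶜ : Set X) = ⋃ Z ∈ {Z | Z ∈ irreducibleComponents X ∧ η ∉ Z}, Z := by
    ext y
    simp only [Set.mem_compl_iff, Set.mem_singleton_iff, Set.mem_iUnion, exists_prop]
    constructor
    · intro hy
      refine ⟨irreducibleComponent y, ⟨irreducibleComponent_mem_irreducibleComponents y, fun hηZ => ?_⟩,
        mem_irreducibleComponent⟩
      have hgp := (isIrreducible_irreducibleComponent (x := y)).isGenericPoint_genericPoint isClosed_irreducibleComponent
      have hg := hgen _ (hgp.specializes hηZ)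
      exact hy (hspec y (hg ▸ hgp.specializes mem_irreducibleComponent))
    · rintro ⟨Z, ⟨_, hηZ⟩, hyZ⟩ rfl
      exact hηZ hyZ
  rw [← isClosed_compl_iff, heq]
  exact (hfinC.subset fun Z h => h.1).isClosed_biUnion fun Z h => isClosed_of_mem_irreducibleComponents Z h.1

section Mult

variable {k : Type u} [Field k] [X.Over (Spec (CommRingCat.of k))] [IsProper (X ↘ Spec (CommRingCat.of k))]
  (hdim : topologicalKrullDim X ≤ (1 : ℕ)) {L : X.Modules} (hA : CohB1.IsAmple L)

include hdim hA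

theorem coeff_zero_eq {F : X.Modules} (hF : Coh.IsCoh F) :
    (HPoly k L F).coeff 0 = (Curv2.euler k X F : ℚ) := by
  have h := euler_tw (k := k) hdim hA hF 0
  rw [Nat.cast_zero, mul_zero, add_zero] at h
  rw [← h, ← CurvLib.euler_congr (show (tw L 0).obj F ≅ F from HilbPolyLib.unitLeft F)]

/-- The multiplicity of `DecSh` is the leading coefficient of the Hilbert polynomial. -/
theorem mult_eq {F : X.Modules} (hF : Coh.IsCoh F) :
    (DecSh.mult k X L F : ℚ) = CurveBddLib.mult k L F := by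
  have h := euler_tw (k := k) hdim hA hF 1
  have e : (tw L 1).obj F ≅ CohB1.tensorMod F L :=
    HilbPolyLib.congrLeft (HilbPolyLib.unitLeft L) F ≪≫ HilbPolyLib.swapIso _ _
  rw [DecSh.mult, ← CurvLib.euler_congr e, Int.cast_sub, h, coeff_zero_eq hdim hA hF]
  simp

theorem mult_nonneg {F : X.Modules} (hF : Coh.IsCoh F) : 0 ≤ DecSh.mult k X L F := by
  have h : (0 : ℚ) ≤ (DecSh.mult k X L F : ℚ) := by
    rw [mult_eq hdim hA hF]
    exact HilbPolyLib.alpha_nonneg hA hF (hPoly_spec hA hF) (dim_support_le hdim F)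
  exact_mod_cast h

theorem mult_congr {F G : X.Modules} (hF : Coh.IsCoh F) (e : F ≅ G) :
    DecSh.mult k X L F = DecSh.mult k X L G := by
  have hG : Coh.IsCoh G := QCohLib.isCoh_of_iso e hF
  have h : (DecSh.mult k X L F : ℚ) = (DecSh.mult k X L G : ℚ) := by
    rw [mult_eq hdim hA hF, mult_eq hdim hA hG, CurveBddLib.mult, CurveBddLib.mult, hPoly_congr (k := k) hA hF e]
  exact_mod_cast h

theorem mult_add' {S : ShortComplex X.Modules} (hS : S.ShortExact) (h₁ : Coh.IsCoh S.X₁)
    (h₂ : Coh.IsCoh S.X₂) (h₃ : Coh.IsCoh S.X₃) :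
    DecSh.mult k X L S.X₂ = DecSh.mult k X L S.X₁ + DecSh.mult k X L S.X₃ := by
  have h : (DecSh.mult k X L S.X₂ : ℚ) = DecSh.mult k X L S.X₁ + DecSh.mult k X L S.X₃ := by
    rw [mult_eq hdim hA h₁, mult_eq hdim hA h₂, mult_eq hdim hA h₃]
    exact CurveBddLib.mult_add hdim hA S.f S.g S.zero hS h₁ h₂ h₃
  exact_mod_cast h

theorem mult_quot {E F : X.Modules} (ι : F ⟶ E) [Mono ι] (hF : Coh.IsCoh F) (hE : Coh.IsCoh E) :
    DecSh.mult k X L E = DecSh.mult k X L F + DecSh.mult k X L (cokernel ι) := by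
  haveI := CurvLib.isNoetherian k (X := X)
  exact mult_add' hdim hA (S := ShortComplex.mk ι (cokernel.π ι) (cokernel.condition ι))
    (ShortComplex.ShortExact.mk (ShortComplex.exact_cokernel ι)) hF hE (QCohLib.isCoh_cokernel ι hF.1 hE)

theorem mult_le {E F : X.Modules} (ι : F ⟶ E) [Mono ι] (hF : Coh.IsCoh F) (hE : Coh.IsCoh E) :
    DecSh.mult k X L F ≤ DecSh.mult k X L E := by
  haveI := CurvLib.isNoetherian k (X := X)
  have h := mult_quot (k := k) hdim hA ι hF hE
  have := mult_nonneg (k := k) hdim hA (QCohLib.isCoh_cokernel ι hF.1 hE)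
  omega

theorem mult_pos [IsReduced X] (hpure : ∀ x : X, ¬ IsOpen ({x} : Set X)) {E F : X.Modules}
    (htf : TorSh.IsTorsionFree E) (ι : F ⟶ E) [Mono ι] (hF : Coh.IsCoh F) (h0 : ¬ IsZero F) :
    1 ≤ DecSh.mult k X L F := by
  haveI := CurvLib.isNoetherian k (X := X)
  have h : (0 : ℚ) < (DecSh.mult k X L F : ℚ) := by
    rw [mult_eq hdim hA hF]
    exact StabLib.alpha_pos_of_pure hA (isPure_of_torsionFree hdim hpure htf) ι hF h0
  have h' : (0 : ℤ) < DecSh.mult k X L F := by exact_mod_cast h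
  omega

end Mult

section Filt

variable {C : Type*} [Category C] {E : C} (𝓕 : DecSh.WFilt E) (αE : ℤ) (α : Subobject E → ℤ) {a : ℕ}

theorem nu_le (I : Fin a → Fin (𝓕.t + 1)) (i : Fin 𝓕.t) : 𝓕.nu αE α I i ≤ a :=
  (Finset.card_filter_le _ _).trans (by simp)

theorem term_ge (hαE : 0 ≤ αE) (I : Fin a → Fin (𝓕.t + 1)) (i : Fin 𝓕.t) :
    (a : ℚ) * ((α (𝓕.piece i) : ℚ) - αE) ≤ (a : ℚ) * (α (𝓕.piece i) : ℚ) - (𝓕.nu αE α I i : ℚ) * (αE : ℚ) := by
  have h1 : (𝓕.nu αE α I i : ℚ) ≤ a := by exact_mod_cast nu_le 𝓕 αE α I i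
  have h2 : (0 : ℚ) ≤ αE := by exact_mod_cast hαE
  nlinarith

theorem term_le (h1E : 1 ≤ αE) (hle : ∀ i, α (𝓕.piece i) ≤ αE) (I : Fin a → Fin (𝓕.t + 1)) (i : Fin 𝓕.t) :
    (a : ℚ) * (α (𝓕.piece i) : ℚ) - (𝓕.nu αE α I i : ℚ) * (αE : ℚ) ≤ (a : ℚ) * ((αE : ℚ) - 1) := by
  have ha : (0 : ℚ) ≤ a := Nat.cast_nonneg _
  have hE : (1 : ℚ) ≤ αE := by exact_mod_cast h1E
  rcases lt_or_eq_of_le (hle i) with hlt | heq
  · have h2 : (α (𝓕.piece i) : ℚ) ≤ (αE : ℚ) - 1 := by
      have : α (𝓕.piece i) ≤ αE - 1 := by omega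
      exact_mod_cast this
    have h3 : (0 : ℚ) ≤ (𝓕.nu αE α I i : ℚ) * (αE : ℚ) := mul_nonneg (Nat.cast_nonneg _) (by linarith)
    nlinarith
  · have hnu : 𝓕.nu αE α I i = a := by
      rw [DecSh.WFilt.nu, Finset.filter_true_of_mem, Finset.card_fin]
      intro j _
      rw [heq]
      induction (I j) using Fin.lastCases with
      | last => simp
      | cast m => simpa using hle m
    rw [hnu, heq]
    nlinarith

theorem mu_ge (hαE : 0 ≤ αE) (N : DecSh.NV E a) :
    (∑ i, 𝓕.wt i * ((a : ℚ) * ((α (𝓕.piece i) : ℚ) - αE))) ≤ 𝓕.mu αE α N := by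
  obtain ⟨I, _, e⟩ := 𝓕.exists_gam_eq_mu αE α N
  rw [← e]
  exact Finset.sum_le_sum fun i _ => mul_le_mul_of_nonneg_left (term_ge 𝓕 αE α hαE I i) (𝓕.wt_pos i).le

theorem mu_le (h1E : 1 ≤ αE) (hle : ∀ i, α (𝓕.piece i) ≤ αE) (N : DecSh.NV E a) :
    𝓕.mu αE α N ≤ (∑ i, 𝓕.wt i) * (a : ℚ) * ((αE : ℚ) - 1) := by
  refine (𝓕.mu_le_gam αE α N (𝓕.adm_last N)).trans ?_
  rw [DecSh.WFilt.gam, mul_assoc, Finset.sum_mul]
  exact Finset.sum_le_sum fun i _ => mul_le_mul_of_nonneg_left (term_le 𝓕 αE α h1E hle _ i) (𝓕.wt_pos i).le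

end Filt

section Single

variable {k : Type u} [Field k] [X.Over (Spec (CommRingCat.of k))]

/-- Semistability tested on one subsheaf. -/
theorem single_bound {E : X.Modules} {ok : Subobject E → Prop} {αE : ℤ} {α : Subobject E → ℤ} {dE : ℚ}
    {d : Subobject E → ℚ} {a : ℕ} {N : DecSh.NV E a} {δ : ℚ} (hδ : 0 ≤ δ) (hαE : 0 ≤ αE)
    (h : DecSh.IsDeltaSS ok αE α dE d N δ) {F : X.Modules} (ι : F ⟶ E) [Mono ι] (hok : ok (Subobject.mk ι))
    (hF0 : ¬ IsZero F) (hι : ¬ IsIso ι) :
    (αE : ℚ) * d (Subobject.mk ι) - (α (Subobject.mk ι) : ℚ) * dE ≤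
      δ * (a : ℚ) * ((αE : ℚ) - (α (Subobject.mk ι) : ℚ)) := by
  let 𝓕 : DecSh.WFilt E := DecSh.WFilt.single (Subobject.mk ι)
    (fun h => hι ((Subobject.isIso_iff_mk_eq_top ι).2 h))
    (fun hz => hF0 (hz.of_iso (Subobject.underlyingIso ι).symm))
  have h1 := h 𝓕 (fun _ => hok)
  have h2 := mu_ge 𝓕 αE α hαE N
  have e1 : 𝓕.msum αE α dE d = (αE : ℚ) * d (Subobject.mk ι) - (α (Subobject.mk ι) : ℚ) * dE := by
    simp [DecSh.WFilt.msum, 𝓕, DecSh.WFilt.single]
  have e2 : (∑ i, 𝓕.wt i * ((a : ℚ) * ((α (𝓕.piece i) : ℚ) - αE))) = (a : ℚ) * ((α (Subobject.mk ι) : ℚ) - αE) := by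
    simp [𝓕, DecSh.WFilt.single]
  rw [e1] at h1
  rw [e2] at h2
  nlinarith

end Single

end DecShLib
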