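import Groth.Agent.DecShLib.Basic
import Groth.Agent.IntMultLib.Components
import Groth.Agent.CurvLib.StalkSum

/-!
# Multiplicity and torsion freeness of locally free modules on curves
-/

set_option autoImplicit false
set_option linter.style.haveILetI false
set_option maxHeartbeats 1000000
universe u

open CategoryTheory CategoryTheory.Limits AlgebraicGeometry
open StabLib HilbPolyLib DevissLib

noncomputable section

namespace DecShLib

variable {X : Scheme.{u}}

theorem torsionFree_of_locFree {n : ℕ} {E : X.Modules} (hE : FlatMod.IsFinLocFreeOfRank n E) :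
    TorSh.IsTorsionFree E := fun x => by
  obtain ⟨e⟩ := CurvLib.nonempty_stalk_pi_of_locFree hE x
  exact Function.Injective.moduleIsTorsionFree (R := X.presheaf.stalk x) e e.injective fun r m => map_smul e r m

theorem len_locFree {n : ℕ} {E : X.Modules} (hE : FlatMod.IsFinLocFreeOfRank n E) (ξ : X) :
    IntMultLib.len E ξ = n * IntMultLib.len (Coh.structureModule X) ξ := by
  obtain ⟨e⟩ := CurvLib.nonempty_stalk_pi_of_locFree hE ξ
  refine e.length_eq.trans ?_
  rw [Module.length_pi]
  refine congrArg₂ (· * ·) (by simp) ?_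
  exact (CurvLib.stalkStructureEquiv ξ).length_eq.symm

variable {k : Type u} [Field k] [X.Over (Spec (CommRingCat.of k))] [IsProper (X ↘ Spec (CommRingCat.of k))]

/-- The multiplicity of a locally free module of rank `n`. -/
theorem mult_locFree (hdim : topologicalKrullDim X ≤ (1 : ℕ)) {L : X.Modules} (hA : CohB1.IsAmple L) {n : ℕ}
    {E : X.Modules} (hE : FlatMod.IsFinLocFreeOfRank n E) :
    DecSh.mult k X L E = n * DecSh.mult k X L (Coh.structureModule X) := by
  haveI := CurvLib.isNoetherian k (X := X)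
  rcases isEmpty_or_nonempty X with hX | hX
  · have hz : ∀ M : X.Modules, IsZero M := fun M =>
      DevissLib.isZero_of_support_empty (Set.eq_empty_of_forall_notMem fun x => hX.elim x)
    have h0 : ∀ M : X.Modules, Coh.IsCoh M → DecSh.mult k X L M = 0 := fun M hM => by
      have h : (DecSh.mult k X L M : ℚ) = 0 := by
        rw [mult_eq hdim hA hM, CurveBddLib.mult, hPoly_zero hA (hz M)]
        simp [StabCat.alpha]
      exact_mod_cast h
    rw [h0 _ (CurvLib.isCoh_of_locFree hE), h0 _ (DevissLib.isCoh_structureModule X), mul_zero]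
  let Φ : X.Modules → ℤ := fun M => DecSh.mult k X L M
  have hiso : ∀ M N : X.Modules, (M ≅ N) → Φ M = Φ N := fun M N e => by
    simp only [Φ, DecSh.mult]
    rw [CurvLib.euler_congr e, CurvLib.euler_congr (HilbPolyLib.congrLeft e L)]
  have hlow : ∀ M : X.Modules, Coh.IsCoh M → topologicalKrullDim (CohB1.support M) < ((1 : ℕ) : WithBot ℕ∞) →
      Φ M = 0 := fun M hM hd => by
    have h : ¬ (0 : ℚ) < (DecSh.mult k X L M : ℚ) := fun hpos => by
      rw [mult_eq hdim hA hM] at hpos
      exact hd.ne ((hPoly_alpha_pos_iff hA hM (CurveBddLib.dim_support_le hdim M)).1 hpos)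
    have h' : ¬ 0 < DecSh.mult k X L M := fun hh => h (by exact_mod_cast hh)
    have := mult_nonneg (k := k) hdim hA hM
    simp only [Φ]
    omega
  have hd' : topologicalKrullDim (Set.univ : Set X) ≤ ((1 : ℕ) : WithBot ℕ∞) :=
    (topologicalKrullDim_subspace_le X _).trans hdim
  obtain ⟨T, hT, hfin, hE'⟩ := IntMultLib.additive_eq_sum' (k := k) Φ hiso
    (fun S hS h₁ h₂ h₃ => mult_add' hdim hA hS h₁ h₂ h₃) hlow isClosed_univ Set.univ_nonempty hd'
    (Coh.structureModule X) (DevissLib.isCoh_structureModule X) (Set.subset_univ _)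
  obtain ⟨T', hT', -, hE''⟩ := IntMultLib.additive_eq_sum' (k := k) Φ hiso
    (fun S hS h₁ h₂ h₃ => mult_add' hdim hA hS h₁ h₂ h₃) hlow isClosed_univ Set.univ_nonempty hd'
    E (CurvLib.isCoh_of_locFree hE) (Set.subset_univ _)
  have hTT : T' = T := Finset.ext fun ξ => (hT' ξ).trans (hT ξ).symm
  simp only [Φ] at hE' hE''
  rw [hE'', hE', hTT, Finset.mul_sum]
  refine Finset.sum_congr rfl fun ξ _ => ?_
  rw [len_locFree hE ξ, ENat.toNat_mul, ENat.toNat_natCast, nsmul_eq_mul, nsmul_eq_mul]
  push_cast
  ring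

end DecShLib
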