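import Groth.Agent.DecShLib.Sect

/-!
# The sectional characterisation of semistable tensor fields on curves
-/

set_option autoImplicit false
set_option linter.style.haveILetI false
set_option maxHeartbeats 1000000
universe u

open CategoryTheory CategoryTheory.Limits AlgebraicGeometry
open StabLib HilbPolyLib DevissLib

noncomputable section

namespace DecShLib

variable {k : Type u} [Field k] {X : Scheme.{u}} [X.Over (Spec (CommRingCat.of k))]
  [IsProper (X ↘ Spec (CommRingCat.of k))] [IsReduced X] (hdim : topologicalKrullDim X ≤ (1 : ℕ))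
  {L : X.Modules} (hA : CohB1.IsAmple L) (hpure : ∀ x : X, ¬ IsOpen ({x} : Set X))

variable (k) in
/-- The sectional condition on quotients. -/
def QCond (L : X.Modules) {E D : X.Modules} {a b : ℕ} (T : DecSh.TF E a b D) (δ : ℚ) (α : ℤ) (m : ℕ) : Prop :=
  ∀ 𝓕 : DecSh.WFilt E, (∀ i, Coh.IsCoh ((𝓕.piece i : Subobject E) : X.Modules)) →
    (∑ i, 𝓕.wt i * ((DecSh.mult k X L (cokernel (𝓕.piece i).arrow) : ℚ) *
        (Curv2.euler k X (ShStab.twist X L E m) : ℚ) -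
      (α : ℚ) * (Module.finrank k (Coh.HH X (ShStab.twist X L (cokernel (𝓕.piece i).arrow) m) 0) : ℚ))) +
      δ * T.mu k L 𝓕 ≤ 0

include hdim hA

theorem h0_twist_exact {F : X.Modules} (hF : Coh.IsCoh F) {m : ℕ}
    (h : Subsingleton (Coh.HH X ((CurveBddLib.tw L m).obj F) 1)) :
    (hd k (ShStab.twist X L F m) 0 : ℚ) = (Curv2.euler k X F : ℚ) + (DecSh.mult k X L F : ℚ) * (m : ℚ) := by
  rw [hd_twist, h0_eq_euler hdim h, euler_tw' hdim hA hF]

omit [IsReduced X] in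
theorem h0_twist_ge {F : X.Modules} (hF : Coh.IsCoh F) (m : ℕ) :
    (Curv2.euler k X F : ℚ) + (DecSh.mult k X L F : ℚ) * (m : ℚ) ≤ (hd k (ShStab.twist X L F m) 0 : ℚ) := by
  rw [hd_twist, ← euler_tw' hdim hA hF]
  exact euler_le_h0 hdim _

include hpure

theorem piece_facts {E : X.Modules} (hE : Coh.IsCoh E) (htf : TorSh.IsTorsionFree E) (𝓕 : DecSh.WFilt E)
    (hcoh : ∀ i, Coh.IsCoh ((𝓕.piece i : Subobject E) : X.Modules)) :
    1 ≤ DecSh.mult k X L E ∧ ∀ i, DecSh.mult k X L ((𝓕.piece i : Subobject E) : X.Modules) ≤ DecSh.mult k X L E :=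
  have hle := fun i => mult_le (k := k) hdim hA (𝓕.piece i).arrow (hcoh i) hE
  ⟨(mult_pos (k := k) hdim hA hpure htf (𝓕.piece ⟨0, 𝓕.t_pos⟩).arrow (hcoh _) (𝓕.piece_nonzero _)).trans (hle _), hle⟩

variable (k) in
/-- Semistable tensor fields with fixed invariants have bounded quotient slopes. -/
theorem exists_ss_good {δ : ℚ} (hδ : 0 < δ) (α e : ℤ) (a : ℕ) :
    ∃ c : ℤ, ∀ E : X.Modules, Coh.IsCoh E → TorSh.IsTorsionFree E → DecSh.mult k X L E = α →
      Curv2.euler k X E = e → ∀ (b : ℕ) (D : X.Modules) (T : DecSh.TF E a b D), T.IsSemistable k L δ →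
        CurveBddLib.Good k L c E := by
  let M : ℚ := δ * (a : ℚ) * ((max α 0 : ℤ) : ℚ)
  have hM : 0 ≤ M := mul_nonneg (mul_nonneg hδ.le (Nat.cast_nonneg a)) (by exact_mod_cast le_max_right α 0)
  refine ⟨⌊((e : ℚ) - M) / (α : ℚ)⌋, fun E hEc htf hα he b D T hT => ?_⟩
  have h0 : 0 ≤ α := hα ▸ mult_nonneg (k := k) hdim hA hEc
  refine good_of_bound hdim hA hpure hEc htf hM (fun G ι hι hG hG0 hni => ?_) ?_
  · have hP : Coh.IsCoh ((Subobject.mk ι : Subobject E) : X.Modules) := QCohLib.isCoh_of_iso (Subobject.underlyingIso ι).symm hG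
    have h := single_bound hδ.le (mult_nonneg (k := k) hdim hA hEc) hT ι hP hG0 hni
    rw [mult_congr (k := k) hdim hA hP (Subobject.underlyingIso ι), CurvLib.euler_congr (k := k) (Subobject.underlyingIso ι)] at h
    refine h.trans (mul_le_mul_of_nonneg_left ?_ (mul_nonneg hδ.le (Nat.cast_nonneg a)))
    have hG' : (0 : ℚ) ≤ (DecSh.mult k X L G : ℚ) := by exact_mod_cast mult_nonneg (k := k) hdim hA hG
    have : (DecSh.mult k X L E : ℚ) ≤ ((max α 0 : ℤ) : ℚ) := by rw [hα]; exact_mod_cast le_max_left α 0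
    linarith
  · rw [hα, he]
    rcases eq_or_lt_of_le h0 with h | h
    · have hz : IsZero E := by
        by_contra hne
        have := mult_pos (k := k) hdim hA hpure htf (𝟙 E) hEc hne
        omega
      have h' : (Curv2.euler k X E : ℚ) = 0 := by
        rw [← coeff_zero_eq (k := k) hdim hA hEc, hPoly_zero hA hz, Polynomial.coeff_zero]
      rw [he] at h'
      simp [M, h', ← h]
    · exact (le_div_iff₀ (by exact_mod_cast h)).1 (Int.floor_le _)

variable (k) in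
/-- The sectional condition on quotients bounds the quotient slopes. -/
theorem exists_q_good {δ : ℚ} (hδ : 0 < δ) (α e : ℤ) (a : ℕ) :
    ∃ (c : ℤ) (N : ℕ), ∀ m : ℕ, N ≤ m → ∀ E : X.Modules, Coh.IsCoh E → TorSh.IsTorsionFree E →
      DecSh.mult k X L E = α → Curv2.euler k X E = e → ∀ (b : ℕ) (D : X.Modules) (T : DecSh.TF E a b D),
        QCond k L T δ α m → CurveBddLib.Good k L c E := by
  let g : ℚ := (hd k (Coh.structureModule X) 1 : ℚ)
  let s : ℚ := ((e : ℚ) - δ * (a : ℚ)) / (α : ℚ)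
  let c : ℤ := min (⌊s - g⌋ - 1) ⌊(e : ℚ) / (α : ℚ)⌋
  refine ⟨c, (-c).toNat, fun m hm E hEc htf hα he b D T hT => ?_⟩
  have h0 : 0 ≤ α := hα ▸ mult_nonneg (k := k) hdim hA hEc
  rcases eq_or_lt_of_le h0 with h | hαpos
  · refine ⟨hEc, fun Q π hπ hQ hpos => ?_⟩
    haveI := hπ
    obtain ⟨hK, h1, -⟩ := ker_data (k := k) hdim hA π hEc hQ
    rw [← mult_eq hdim hA hQ] at hpos
    have hK0 : (0 : ℚ) ≤ (DecSh.mult k X L (kernel π) : ℚ) := by exact_mod_cast mult_nonneg (k := k) hdim hA hK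
    rw [hα, ← h, Int.cast_zero] at h1
    linarith
  have hαq : (0 : ℚ) < (α : ℚ) := by exact_mod_cast hαpos
  have hc1 : (c : ℚ) + g < s := by
    have h1 : (c : ℚ) ≤ ((⌊s - g⌋ - 1 : ℤ) : ℚ) := by exact_mod_cast min_le_left _ _
    have h2 := Int.floor_le (s - g)
    push_cast at h1
    linarith
  have hc2 : 0 ≤ (c : ℚ) + (m : ℚ) + g := by
    have h1 : (0 : ℤ) ≤ c + (m : ℤ) := by omega
    have h2 : (0 : ℚ) ≤ (c : ℚ) + (m : ℚ) := by exact_mod_cast h1
    have h3 : (0 : ℚ) ≤ g := Nat.cast_nonneg _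
    linarith
  refine good_of_h0 (k := k) hdim hA hEc hc1 hc2 ?_ fun G ι hι hG hG0 hni _ => ?_
  · rw [hα, he, ← le_div_iff₀ hαq]
    have h' : (c : ℚ) ≤ ((⌊(e : ℚ) / (α : ℚ)⌋ : ℤ) : ℚ) := Int.cast_le.2 (min_le_right _ _)
    exact le_trans h' (Int.floor_le _)
  haveI := hι
  let 𝓕 : DecSh.WFilt E := DecSh.WFilt.single (Subobject.mk ι)
    (fun h => hni ((Subobject.isIso_iff_mk_eq_top ι).2 h))
    (fun hz => hG0 (hz.of_iso (Subobject.underlyingIso ι).symm))
  have hP : Coh.IsCoh ((Subobject.mk ι : Subobject E) : X.Modules) := QCohLib.isCoh_of_iso (Subobject.underlyingIso ι).symm hG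
  have h1 := hT 𝓕 fun _ => hP
  have h2 := mul_le_mul_of_nonneg_left
    (mu_ge 𝓕 (DecSh.mult k X L E) (fun P => DecSh.mult k X L (P : X.Modules)) (hα ▸ h0) T.nv) hδ.le
  have e2 : (∑ i, 𝓕.wt i * ((a : ℚ) * ((DecSh.mult k X L ((𝓕.piece i : Subobject E) : X.Modules) : ℚ) -
      (DecSh.mult k X L E : ℚ)))) = (a : ℚ) * ((DecSh.mult k X L G : ℚ) - (DecSh.mult k X L E : ℚ)) := by
    simp [𝓕, DecSh.WFilt.single, mult_congr (k := k) hdim hA hP (Subobject.underlyingIso ι)]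
  rw [e2] at h2
  obtain ⟨hC, hC1, -⟩ := coker_data (k := k) hdim hA ι hG hEc
  let ec : cokernel (Subobject.mk ι).arrow ≅ cokernel ι :=
    (cokernelEpiComp (Subobject.underlyingIso ι).inv (Subobject.mk ι).arrow).symm ≪≫
      cokernelIsoOfEq (Subobject.underlyingIso_arrow ι)
  have hC' : Coh.IsCoh (cokernel (Subobject.mk ι).arrow) := QCohLib.isCoh_of_iso ec.symm hC
  have e1 : hd k (ShStab.twist X L (cokernel (Subobject.mk ι).arrow) m) 0 = hd k ((CurveBddLib.tw L m).obj (cokernel ι)) 0 :=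
    (hd_twist _ m).trans (hd_congr ((CurveBddLib.tw L m).mapIso ec) 0)
  have h1' : (DecSh.mult k X L (cokernel ι) : ℚ) * ((e : ℚ) + (α : ℚ) * (m : ℚ)) -
      (α : ℚ) * (hd k ((CurveBddLib.tw L m).obj (cokernel ι)) 0 : ℚ) + δ * T.mu k L 𝓕 ≤ 0 := by
    have h3 := h1
    simp only [𝓕, DecSh.WFilt.single, Finset.univ_unique, Finset.sum_singleton, one_mul] at h3
    rw [mult_congr (k := k) hdim hA hC' ec, euler_shTwist hdim hA hEc, he, hα] at h3
    change _ - _ * (hd k (ShStab.twist X L (cokernel (Subobject.mk ι).arrow) m) 0 : ℚ) + _ ≤ 0 at h3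
    rw [e1] at h3
    exact h3
  have hG2 : (DecSh.mult k X L G : ℚ) - (DecSh.mult k X L E : ℚ) = -(DecSh.mult k X L (cokernel ι) : ℚ) := by linarith
  rw [hG2] at h2
  change δ * _ ≤ δ * T.mu k L 𝓕 at h2
  refine le_of_mul_le_mul_left ?_ hαq
  have hs : (α : ℚ) * s = (e : ℚ) - δ * (a : ℚ) := mul_div_cancel₀ _ hαq.ne'
  have e3 : (α : ℚ) * ((DecSh.mult k X L (cokernel ι) : ℚ) * (s + (m : ℚ))) =
      (DecSh.mult k X L (cokernel ι) : ℚ) * ((α : ℚ) * s) + (DecSh.mult k X L (cokernel ι) : ℚ) * ((α : ℚ) * (m : ℚ)) := by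
    ring
  rw [e3, hs]
  linarith

variable (k) in
/-- Pieces of a bounded family are either exact or very negative on sections. -/
theorem exists_sub_alt (c₁ α e : ℤ) (R : ℚ) :
    ∃ N : ℕ, ∀ m : ℕ, N ≤ m → ∀ E : X.Modules, CurveBddLib.Good k L c₁ E → TorSh.IsTorsionFree E →
      DecSh.mult k X L E = α → Curv2.euler k X E = e → ∀ (G : X.Modules) (ι : G ⟶ E), Mono ι → Coh.IsCoh G →
        ¬ IsZero G →
        (α : ℚ) * (hd k (ShStab.twist X L G m) 0 : ℚ) ≤
            (DecSh.mult k X L G : ℚ) * ((e : ℚ) + (α : ℚ) * (m : ℚ)) - R * (α : ℚ) ∨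
          (hd k (ShStab.twist X L G m) 0 : ℚ) = (Curv2.euler k X G : ℚ) + (DecSh.mult k X L G : ℚ) * (m : ℚ) := by
  let B : ℚ := |(e : ℚ)| + |(c₁ : ℚ)| * (α.toNat : ℚ)
  obtain ⟨c, N, hN⟩ := exists_dichotomy (k := k) hdim hA B ((e : ℚ) / (α : ℚ)) R α.toNat
  obtain ⟨l₀, hl₀⟩ := CurveBddLib.exists_vanishing (k := k) hdim hA c α.toNat
  refine ⟨N + l₀, fun m hm E hg htf hα he G ι hι hG hG0 => ?_⟩
  haveI := hι
  have hαA : DecSh.mult k X L E ≤ (α.toNat : ℤ) := by rw [hα]; exact Int.self_le_toNat α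
  have hB := subB_of_good (k := k) hdim hA hpure hg htf hαA (B := B) (by rw [he])
  have h1 := mult_pos (k := k) hdim hA hpure htf ι hG hG0
  have h2 := mult_le (k := k) hdim hA ι hG hg.1
  have hαq : (0 : ℚ) < (α : ℚ) := by
    have : 0 < α := by omega
    exact_mod_cast this
  rcases hN E hg.1 hB hαA G ι hι hG m (by omega) with h | h
  · left
    rw [hd_twist]
    have h3 := mul_le_mul_of_nonneg_left h hαq.le
    have hs : (α : ℚ) * ((e : ℚ) / (α : ℚ)) = (e : ℚ) := mul_div_cancel₀ _ hαq.ne'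
    have e3 : (α : ℚ) * ((DecSh.mult k X L G : ℚ) * ((e : ℚ) / (α : ℚ) + (m : ℚ)) - R) =
        (DecSh.mult k X L G : ℚ) * ((α : ℚ) * ((e : ℚ) / (α : ℚ)) + (α : ℚ) * (m : ℚ)) - R * (α : ℚ) := by ring
    rw [e3, hs] at h3
    exact h3
  · right
    refine h0_twist_exact hdim hA hG (hl₀ G h ?_ m (by omega))
    rw [← mult_eq hdim hA hG]
    exact_mod_cast h2.trans hαA

end DecShLib
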