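import Groth.Agent.DecShLib.Pure
import Groth.Agent.DecShLib.Sect2
import Groth.Agent.DecShLib.Rank
import Mathlib.AlgebraicGeometry.AlgClosed.Basic

/-!
# Bounded families of bundles on curves and semistability through sections
-/

set_option autoImplicit false
set_option linter.style.haveILetI false
set_option maxHeartbeats 1000000
universe u

open CategoryTheory CategoryTheory.Limits AlgebraicGeometry TopologicalSpace
open StabLib HilbPolyLib DevissLib AmpleLib AmpleThLib

noncomputable section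

namespace DecShLib

variable {k : Type u} [Field k] {X : Scheme.{u}} [X.Over (Spec (CommRingCat.of k))]
  [IsProper (X ↘ Spec (CommRingCat.of k))]

variable (k) in
include k in
/-- An integral curve over a field has no open point. -/
theorem not_isOpen_point [IsIntegral X] (hdim : topologicalKrullDim X = 1) (x : X) :
    ¬ IsOpen ({x} : Set X) := fun hx => by
  have hgx : genericPoint X = x :=
    Set.mem_singleton_iff.1 (((genericPoint_spec X).mem_open_set_iff hx).2 ⟨x, trivial, rfl⟩)
  haveI : JacobsonSpace X := LocallyOfFiniteType.jacobsonSpace (X ↘ Spec (CommRingCat.of k))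
  obtain ⟨y, hy, hyc⟩ := nonempty_inter_closedPoints (X := X) (Set.singleton_nonempty x) hx.isLocallyClosed
  rw [Set.mem_singleton_iff] at hy
  subst hy
  have hcl : IsClosed ({y} : Set X) := hyc
  haveI : Subsingleton X := ⟨fun a b => by
    have ha : a ∈ closure ({genericPoint X} : Set X) := (genericPoint_spec X).def.symm ▸ trivial
    have hb : b ∈ closure ({genericPoint X} : Set X) := (genericPoint_spec X).def.symm ▸ trivial
    rw [hgx, hcl.closure_eq, Set.mem_singleton_iff] at ha hb
    exact ha.trans hb.symm⟩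
  have h0 : topologicalKrullDim X ≤ 0 := topologicalKrullDim_zero_of_discreteTopology _
  rw [hdim] at h0
  exact absurd h0 (by norm_num)

variable (hdim : topologicalKrullDim X ≤ (1 : ℕ)) {L : X.Modules} (hA : CohB1.IsAmple L)

include hdim hA

variable (k) in
/-- A family of bundles with fixed rank and degree is bounded iff its quotient slopes are bounded below. -/
theorem bounded_iff_slopes [Smooth (X ↘ Spec (CommRingCat.of k))] (r : ℕ) (d : ℤ) (S : Set X.Modules)
    (hS : ∀ E ∈ S, FlatMod.IsFinLocFreeOfRank r E ∧ Curv2.deg k X E r = d) :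
    (∃ n₀ : ℕ, ∀ n : ℕ, n₀ ≤ n → ∀ E ∈ S,
        Subsingleton (Coh.HH X (CohB1.tensorMod E (CohB1.tensorPow L n)) 1) ∧
        Curv2.IsGloballyGenerated (CohB1.tensorMod E (CohB1.tensorPow L n))) ↔
    (∃ C : ℤ, ∀ E ∈ S, ∀ (Q : X.Modules) (p : E ⟶ Q), Epi p → FlatMod.IsFinLocFree Q →
        0 < DecSh.mult k X L Q →
        (C : ℚ) ≤ (Curv2.euler k X Q : ℚ) / (DecSh.mult k X L Q : ℚ)
          - (Curv2.euler k X E : ℚ) / (DecSh.mult k X L E : ℚ)) := by
  haveI := CurvLib.isNoetherian k (X := X)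
  let α : ℤ := r * DecSh.mult k X L (Coh.structureModule X)
  let e : ℤ := d + r * Curv2.euler k X (Coh.structureModule X)
  have hinv : ∀ E ∈ S, Coh.IsCoh E ∧ DecSh.mult k X L E = α ∧ Curv2.euler k X E = e := fun E hE => by
    obtain ⟨hEr, hdeg⟩ := hS E hE
    refine ⟨CurvLib.isCoh_of_locFree hEr, mult_locFree hdim hA hEr, ?_⟩
    rw [Curv2.deg] at hdeg
    simp only [e]
    linarith
  constructor
  · rintro ⟨n₀, hn₀⟩
    refine ⟨⌊-(n₀ : ℚ) - (e : ℚ) / (α : ℚ)⌋, fun E hE Q p hp hQf hpos => ?_⟩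
    obtain ⟨hEc, hα, he⟩ := hinv E hE
    haveI := hp
    have hQ : Coh.IsCoh Q := VBResLib.isCoh_of_vb hQf
    have hv : Subsingleton (Coh.HH X ((CurveBddLib.tw L n₀).obj E) 1) :=
      SerreVanLib.subsingleton_HH_of_iso (HilbPolyLib.swapIso _ _) 1 (hn₀ n₀ le_rfl E hE).1
    have hK : (ShortComplex.mk (kernel.ι p) p (kernel.condition p)).ShortExact :=
      ShortComplex.ShortExact.mk (ShortComplex.exact_kernel p)
    have hvQ : Subsingleton (Coh.HH X ((CurveBddLib.tw L n₀).obj Q) 1) :=
      CurveBddLib.subsingleton_X₃ (k := k) (HilbPolyLib.shortExact_tensor (tensorPow_isInvertible hA.1 n₀) hK) hv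
        (CurveBddLib.vanish_two (k := k) hdim _ 2 le_rfl)
    have h := h0_eq_euler (k := k) hdim hvQ
    rw [euler_tw' hdim hA hQ] at h
    have hn : (0 : ℚ) ≤ (hd k ((CurveBddLib.tw L n₀).obj Q) 0 : ℚ) := Nat.cast_nonneg _
    have hQp : (0 : ℚ) < (DecSh.mult k X L Q : ℚ) := by exact_mod_cast hpos
    have hQb : -(n₀ : ℚ) ≤ (Curv2.euler k X Q : ℚ) / (DecSh.mult k X L Q : ℚ) := by
      rw [le_div_iff₀ hQp]
      linarith
    rw [hα, he]
    linarith [Int.floor_le (-(n₀ : ℚ) - (e : ℚ) / (α : ℚ))]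
  · rintro ⟨C, hC⟩
    let c : ℤ := ⌊(C : ℚ) + (e : ℚ) / (α : ℚ)⌋
    obtain ⟨l₀, hl₀⟩ := CurveBddLib.exists_vanishing (k := k) hdim hA c α.toNat
    obtain ⟨n₁, hn₁⟩ := exists_gg_of_vanishing k hdim hA
      (Polynomial.C (α : ℚ) * Polynomial.X + Polynomial.C (e : ℚ)) l₀
    refine ⟨l₀ + n₁, fun n hn E hE => ?_⟩
    obtain ⟨hEc, hα, he⟩ := hinv E hE
    have hg : CurveBddLib.Good k L c E := by
      refine ⟨hEc, fun Q π hπ hQ hpos => ?_⟩
      haveI := hπ
      rw [coeff_zero_eq hdim hA hQ, ← mult_eq hdim hA hQ]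
      rw [← mult_eq hdim hA hQ] at hpos
      obtain ⟨hK, hK1, hK2⟩ := ker_data (k := k) hdim hA π hEc hQ
      obtain ⟨F', ι', hι', hF', hα', hnn, -, hpure'⟩ := StabLib.exists_saturation (k := k) (d := 1) hA hEc
        (CurveBddLib.dim_support_le hdim E) (kernel.ι π) hK
      haveI := hι'
      have hFm : (DecSh.mult k X L F' : ℚ) = DecSh.mult k X L (kernel π) := by
        rw [mult_eq hdim hA hF', mult_eq hdim hA hK]
        exact hα'
      have hFχ : (Curv2.euler k X (kernel π) : ℚ) ≤ (Curv2.euler k X F' : ℚ) := by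
        rw [← coeff_zero_eq (k := k) hdim hA hF', ← coeff_zero_eq (k := k) hdim hA hK]
        have h := StabLib.coeff_nonneg (d := 0) ?_ hnn
        · rw [Polynomial.coeff_sub] at h
          linarith
        · rw [Polynomial.natDegree_le_iff_coeff_eq_zero]
          intro i hi
          rcases (show i = 1 ∨ 1 < i by omega) with rfl | hi1
          · simp only [StabCat.alpha, Nat.factorial_one, Nat.cast_one, one_mul] at hα'
            rw [Polynomial.coeff_sub, hα', sub_self]
          · rw [Polynomial.coeff_sub, Polynomial.coeff_eq_zero_of_natDegree_lt (lt_of_le_of_lt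
              (hPoly_deg (k := k) hA hF' (CurveBddLib.dim_support_le hdim F')) hi1),
              Polynomial.coeff_eq_zero_of_natDegree_lt (lt_of_le_of_lt
              (hPoly_deg (k := k) hA hK (CurveBddLib.dim_support_le hdim _)) hi1), sub_self]
      have hni : ¬ IsIso ι' := fun hi => by
        have h1 : (DecSh.mult k X L F' : ℚ) = DecSh.mult k X L E := by
          exact_mod_cast mult_congr (k := k) hdim hA hF' (asIso ι')
        linarith
      obtain ⟨hCc, hC1, hC2⟩ := coker_data (k := k) hdim hA ι' hF' hEc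
      have hCf := isFinLocFree_of_pure (k := k) hdim hCc (hpure'.resolve_left hni)
      have hCpos : (0 : ℚ) < (DecSh.mult k X L (cokernel ι') : ℚ) := by linarith
      have hb := hC E hE (cokernel ι') (cokernel.π ι') inferInstance hCf (by exact_mod_cast hCpos)
      rw [hα, he] at hb
      have hc : (c : ℚ) ≤ (Curv2.euler k X (cokernel ι') : ℚ) / (DecSh.mult k X L (cokernel ι') : ℚ) :=
        (Int.floor_le _).trans (by linarith)
      rw [le_div_iff₀ hCpos] at hc
      rw [show (DecSh.mult k X L Q : ℚ) = DecSh.mult k X L (cokernel ι') by linarith]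
      linarith
    have hm : CurveBddLib.mult k L E = (α : ℚ) := by rw [← mult_eq hdim hA hEc, hα]
    have hvan : ∀ l, l₀ ≤ l → Subsingleton (Coh.HH X ((CurveBddLib.tw L l).obj E) 1) := fun l hl =>
      hl₀ E hg (by rw [hm]; exact_mod_cast Int.self_le_toNat α) l hl
    refine ⟨SerreVanLib.subsingleton_HH_of_iso (HilbPolyLib.swapIso _ _) 1 (hvan n (by omega)),
      hn₁ E hEc (Polynomial.funext fun t => ?_) hvan n (by omega)⟩
    rw [CurveBddLib.eval_eq (k := k) hdim hA hEc, coeff_zero_eq hdim hA hEc, he, hm]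
    simp only [Polynomial.eval_add, Polynomial.eval_mul, Polynomial.eval_C, Polynomial.eval_X]
    ring

/-- A quotient of a free module has quotient slopes at least `-h¹(O)`. -/
theorem good_of_free {N : ℕ} {F : X.Modules} (hF : Coh.IsCoh F) (q : FlatMod.freeMod X N ⟶ F) [Epi q] :
    CurveBddLib.Good k L (-(hd k (Coh.structureModule X) 1 : ℤ)) F := by
  refine ⟨hF, fun Q π hπ hQ hpos => ?_⟩
  haveI := hπ
  have h := h1_le_of_free (k := k) hdim hA N hQ (q ≫ π) (epi_comp _ _)
  rw [coeff_zero_eq hdim hA hQ, euler_eq hdim]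
  have h0 : (0 : ℚ) ≤ (hd k Q 0 : ℚ) := Nat.cast_nonneg _
  push_cast
  linarith

variable (k) in
/-- Slope semistability of quotients of a free module is read off from sections of one twist. -/
theorem exists_twist_iff [IsIntegral X] (hdim1 : topologicalKrullDim X = 1) (N : ℕ) (P : Polynomial ℚ) :
    ∃ l : ℕ, ∀ (r : ℕ) (F : X.Modules) (q : FlatMod.freeMod X N ⟶ F),
      0 < r → FlatMod.IsFinLocFreeOfRank r F → Epi q → ShStab.IsHilbPoly k X L F P →
        (ModFun.IsSlopeSemistable k X F r ↔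
          ∀ (F' : X.Modules) (r' : ℕ) (i : F' ⟶ F), Mono i → 0 < r' → FlatMod.IsFinLocFreeOfRank r' F' →
            (hd k (ShStab.twist X L F' l) 0 : ℚ) / (r' : ℚ) ≤ (hd k (ShStab.twist X L F l) 0 : ℚ) / (r : ℚ)) := by
  haveI := CurvLib.isNoetherian k (X := X)
  have hpure := not_isOpen_point k hdim1
  let α : ℤ := ⌊P.coeff 1⌋
  let e : ℤ := ⌊P.coeff 0⌋
  let c : ℤ := -(hd k (Coh.structureModule X) 1 : ℤ)
  obtain ⟨N₁, hN₁⟩ := exists_sub_alt k hdim hA hpure c α e 0
  obtain ⟨l₀, hl₀⟩ := CurveBddLib.exists_vanishing (k := k) hdim hA c α.toNat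
  refine ⟨N₁ + l₀, fun r F q hr hF hq hP => ?_⟩
  haveI := hq
  have hFc := CurvLib.isCoh_of_locFree hF
  have htf := torsionFree_of_locFree hF
  have hPoly : StabLib.HPoly k L F = P := hPoly_eq hA hFc hP
  have hα : DecSh.mult k X L F = α := by
    have h : (DecSh.mult k X L F : ℚ) = P.coeff 1 := by
      rw [mult_eq hdim hA hFc, CurveBddLib.mult, hPoly]
      simp [StabCat.alpha]
    simp only [α]
    rw [← h, Int.floor_intCast]
  have he : Curv2.euler k X F = e := by
    have h : (Curv2.euler k X F : ℚ) = P.coeff 0 := by rw [← coeff_zero_eq hdim hA hFc, hPoly]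
    simp only [e]
    rw [← h, Int.floor_intCast]
  have hg := good_of_free (k := k) hdim hA hFc q
  have hμr := mult_locFree (k := k) hdim hA hF
  rw [hα] at hμr
  have hv : Subsingleton (Coh.HH X ((CurveBddLib.tw L (N₁ + l₀)).obj F) 1) := by
    refine hl₀ F hg ?_ _ (by omega)
    rw [← mult_eq hdim hA hFc, hα]
    exact_mod_cast Int.self_le_toNat α
  have hF0 := h0_twist_exact (k := k) hdim hA hFc hv
  rw [hα, he] at hF0
  have hrq : (0 : ℚ) < (r : ℚ) := by exact_mod_cast hr
  refine ⟨fun hss F' r' i hi hr' hF' => ?_, fun h F' r' i hi hr' hF' => ?_⟩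
  · haveI := hi
    have hF'c := CurvLib.isCoh_of_locFree hF'
    have hr'q : (0 : ℚ) < (r' : ℚ) := by exact_mod_cast hr'
    have hμr' := mult_locFree (k := k) hdim hA hF'
    rw [div_le_div_iff₀ hr'q hrq, hF0]
    have hss' := hss F' r' i hi hr' hF'
    rw [Curv2.deg, Curv2.deg, he] at hss'
    have hssq : (Curv2.euler k X F' : ℚ) * (r : ℚ) ≤ (e : ℚ) * (r' : ℚ) := by
      have : Curv2.euler k X F' * (r : ℤ) ≤ e * (r' : ℤ) := by linarith
      exact_mod_cast this
    have hαq : (α : ℚ) = (r : ℚ) * (DecSh.mult k X L (Coh.structureModule X) : ℚ) := by exact_mod_cast hμr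
    have hα'q : (DecSh.mult k X L F' : ℚ) = (r' : ℚ) * (DecSh.mult k X L (Coh.structureModule X) : ℚ) := by
      exact_mod_cast hμr'
    have hne : ¬ IsZero F' := fun hz => by
      obtain ⟨eS⟩ := CurvLib.nonempty_stalk_pi_of_locFree hF' (genericPoint X)
      haveI : Subsingleton ((St (genericPoint X)).obj F') := ModuleCat.subsingleton_of_isZero ((St _).map_isZero hz)
      haveI : Subsingleton (Fin r' → X.presheaf.stalk (genericPoint X)) := eS.symm.toEquiv.subsingleton
      haveI : Nonempty (Fin r') := ⟨⟨0, hr'⟩⟩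
      exact not_nontrivial (Fin r' → X.presheaf.stalk (genericPoint X)) inferInstance
    have hF'1 := mult_pos (k := k) hdim hA hpure htf i hF'c hne
    have hμpos : (0 : ℚ) < (DecSh.mult k X L (Coh.structureModule X) : ℚ) := by
      have : (1 : ℚ) ≤ (DecSh.mult k X L F' : ℚ) := by exact_mod_cast hF'1
      rw [hα'q] at this
      nlinarith
    rcases hN₁ (N₁ + l₀) (by omega) F hg htf hα he F' i hi hF'c hne with h | h
    · rw [hαq, hα'q] at h
      rw [hαq]
      refine le_of_mul_le_mul_left ?_ hμpos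
      linarith
    · rw [h, hαq, hα'q]
      linarith
  · haveI := hi
    have hF'c := CurvLib.isCoh_of_locFree hF'
    have hr'q : (0 : ℚ) < (r' : ℚ) := by exact_mod_cast hr'
    have h1 := h F' r' i hi hr' hF'
    rw [div_le_div_iff₀ hr'q hrq, hF0] at h1
    have hge := h0_twist_ge (k := k) hdim hA hF'c (N₁ + l₀)
    have hαq : (α : ℚ) = (r : ℚ) * (DecSh.mult k X L (Coh.structureModule X) : ℚ) := by exact_mod_cast hμr
    have hα'q : (DecSh.mult k X L F' : ℚ) = (r' : ℚ) * (DecSh.mult k X L (Coh.structureModule X) : ℚ) := by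
      exact_mod_cast mult_locFree (k := k) hdim hA hF'
    rw [hα'q] at hge
    rw [hαq] at h1
    have hge' := mul_le_mul_of_nonneg_right hge hrq.le
    have hq' : (Curv2.euler k X F' : ℚ) * (r : ℚ) ≤ (e : ℚ) * (r' : ℚ) := by linarith
    have : Curv2.euler k X F' * (r : ℤ) ≤ e * (r' : ℤ) := by exact_mod_cast hq'
    rw [Curv2.deg, Curv2.deg, he]
    linarith

end DecShLib
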