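import Groth.Agent.DecShLib.Basic
import Groth.Agent.PnCohLib.Resol

/-!
# A bound on global sections on curves
-/

set_option autoImplicit false
set_option linter.style.haveILetI false
set_option maxHeartbeats 1000000
universe u

open CategoryTheory CategoryTheory.Limits AlgebraicGeometry
open StabLib HilbPolyLib DevissLib

noncomputable section

namespace DecShLib

variable {k : Type u} [Field k] {X : Scheme.{u}} [X.Over (Spec (CommRingCat.of k))]
  [IsProper (X ↘ Spec (CommRingCat.of k))]

variable (k) in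
/-- The dimension of a cohomology space. -/
abbrev hd (M : X.Modules) (p : ℕ) : ℕ := Module.finrank k (Coh.HH X M p)

variable (hdim : topologicalKrullDim X ≤ (1 : ℕ))

theorem hd_congr {M N : X.Modules} (e : M ≅ N) (p : ℕ) : hd k M p = hd k N p :=
  (CurvLib.hIso (k := k) e p).finrank_eq

include hdim

theorem euler_eq {M : X.Modules} : (Curv2.euler k X M : ℚ) = (hd k M 0 : ℚ) - (hd k M 1 : ℚ) := by
  rw [CurvLib.euler_eq_sub fun n hn => CurveBddLib.vanish_two (k := k) hdim M n hn]
  push_cast
  rfl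

theorem h0_eq_euler {M : X.Modules} (h : Subsingleton (Coh.HH X M 1)) :
    (hd k M 0 : ℚ) = (Curv2.euler k X M : ℚ) := by
  rw [euler_eq hdim, hd, hd, Module.finrank_zero_of_subsingleton (M := Coh.HH X M 1)]
  simp

theorem euler_le_h0 (M : X.Modules) : (Curv2.euler k X M : ℚ) ≤ (hd k M 0 : ℚ) := by
  rw [euler_eq hdim]
  simp

omit hdim in
theorem hd_mid {S : ShortComplex X.Modules} (hS : S.ShortExact) (h₁ : Coh.IsCoh S.X₁) (h₂ : Coh.IsCoh S.X₂)
    (h₃ : Coh.IsCoh S.X₃) (p : ℕ) : hd k S.X₂ p ≤ hd k S.X₁ p + hd k S.X₃ p := by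
  haveI := CurvLib.finite_HH (k := k) h₁ p
  haveI := CurvLib.finite_HH (k := k) h₂ p
  haveI := CurvLib.finite_HH (k := k) h₃ p
  have h := LinearMap.finrank_range_add_finrank_ker (CurvLib.hMap (k := k) S.g p)
  rw [← CurvLib.exact₂ hS p] at h
  have h1 := LinearMap.finrank_range_le (CurvLib.hMap (k := k) S.f p)
  have h2 := Submodule.finrank_le (LinearMap.range (CurvLib.hMap (k := k) S.g p))
  show Module.finrank k _ ≤ Module.finrank k _ + Module.finrank k _
  omega

/-- The first cohomology does not grow along a quotient. -/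
theorem h1_quot {A B : X.Modules} (π : A ⟶ B) [Epi π] (hA : Coh.IsCoh A) : hd k B 1 ≤ hd k A 1 := by
  have hS : (ShortComplex.mk (kernel.ι π) π (kernel.condition π)).ShortExact :=
    ShortComplex.ShortExact.mk (ShortComplex.exact_kernel π)
  haveI := CurvLib.finite_HH (k := k) hA 1
  have h2 : Subsingleton (Coh.HH X (kernel π) 2) := CurveBddLib.vanish_two (k := k) hdim _ 2 le_rfl
  refine LinearMap.finrank_le_finrank_of_surjective (f := CurvLib.hMap (k := k) π 1) fun y => ?_
  have hy : y ∈ LinearMap.ker (CurvLib.hDel (k := k) hS 1) := LinearMap.mem_ker.2 (h2.elim _ _)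
  rw [← CurvLib.exact₃ hS 1] at hy
  exact hy

variable {L : X.Modules} (hA : CohB1.IsAmple L)

include hA

/-- `h¹` of a globally generated module is bounded by its multiplicity. -/
theorem h1_le_of_free : ∀ (m : ℕ) {G : X.Modules}, Coh.IsCoh G → ∀ (q : FlatMod.freeMod X m ⟶ G), Epi q →
    (hd k G 1 : ℚ) ≤ CurveBddLib.mult k L G * (hd k (Coh.structureModule X) 1 : ℚ)
  | 0, G, hG, q, hq => by
    haveI := hq
    have hz : IsZero (FlatMod.freeMod X 0) := by
      rw [IsZero.iff_id_eq_zero]
      exact Sigma.hom_ext _ _ fun i => i.elim0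
    have hGz : IsZero G := (IsZero.iff_id_eq_zero _).2 (by
      rw [← cancel_epi q, hz.eq_of_src (q ≫ 𝟙 G) 0, comp_zero])
    have h1 : Subsingleton (Coh.HH X G 1) := by
      have := SerreVanLib.subsingleton_HH_of_iso (HilbPolyLib.unitLeft G).symm 1
        (CurveBddLib.vanish_of_mult_eq_zero (k := k) hdim hA hG
          (by rw [CurveBddLib.mult, hPoly_zero hA hGz]; simp [StabCat.alpha]) 0)
      exact this
    rw [hd, Module.finrank_zero_of_subsingleton, CurveBddLib.mult, hPoly_zero hA hGz]
    simp [StabCat.alpha]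
  | m + 1, G, hG, q, hq => by
    haveI := hq
    haveI := CurvLib.isNoetherian k (X := X)
    have hfree : Coh.IsQCoh (FlatMod.freeMod X m) := CurvLib.isQCoh_freeMod X m
    let q' : Coh.structureModule X ⊞ FlatMod.freeMod X m ⟶ G := (CurvLib.freeModSucc X m).inv ≫ q
    haveI : Epi q' := epi_comp _ _
    let r := biprod.inr ≫ q'
    let G' : X.Modules := kernel (cokernel.π r)
    have hC : Coh.IsCoh (cokernel r) := QCohLib.isCoh_cokernel r hfree hG
    have hG' : Coh.IsCoh G' := QCohLib.isCoh_kernel _ hG hC.1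
    have hS : (ShortComplex.mk (kernel.ι (cokernel.π r)) (cokernel.π r) (kernel.condition _)).ShortExact :=
      ShortComplex.ShortExact.mk (ShortComplex.exact_kernel _)
    have hadd : CurveBddLib.mult k L G = CurveBddLib.mult k L G' + CurveBddLib.mult k L (cokernel r) :=
      CurveBddLib.mult_add hdim hA (kernel.ι (cokernel.π r)) (cokernel.π r) (kernel.condition _) hS hG' hG hC
    have hmid := hd_mid (k := k) hS hG' hG hC 1
    dsimp only at hmid
    have ih := h1_le_of_free m hG' (Abelian.factorThruImage r) (CurveBddLib.epi_factorThruImage r)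
    let c : Coh.structureModule X ⟶ cokernel r := biprod.inl ≫ q' ≫ cokernel.π r
    haveI : Epi c := Preadditive.epi_of_cancel_zero _ fun {Z} h hh => by
      rw [← cancel_epi (q' ≫ cokernel.π r), comp_zero]
      refine biprod.hom_ext' _ _ (by simpa [c] using hh) ?_
      simp [← Category.assoc, r]
    have h1C : hd k (cokernel r) 1 ≤ hd k (Coh.structureModule X) 1 :=
      h1_quot hdim c (DevissLib.isCoh_structureModule X)
    obtain ⟨j, hj⟩ := CurveBddLib.exists_mult_int (k := k) hdim hA hC
    have hC1 : (hd k (cokernel r) 1 : ℚ) ≤ (j : ℚ) * (hd k (Coh.structureModule X) 1 : ℚ) := by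
      rcases Nat.eq_zero_or_pos j with rfl | hjpos
      · have : Subsingleton (Coh.HH X (cokernel r) 1) :=
          SerreVanLib.subsingleton_HH_of_iso (HilbPolyLib.unitLeft _).symm 1
            (CurveBddLib.vanish_of_mult_eq_zero (k := k) hdim hA hC (by simpa using hj) 0)
        rw [hd, Module.finrank_zero_of_subsingleton]
        simp
      · have h1 : (1 : ℚ) ≤ j := by exact_mod_cast hjpos
        have h2 : (hd k (cokernel r) 1 : ℚ) ≤ (hd k (Coh.structureModule X) 1 : ℚ) := by exact_mod_cast h1C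
        nlinarith [(Nat.cast_nonneg (hd k (Coh.structureModule X) 1) : (0 : ℚ) ≤ _)]
    have hmidQ : (hd k G 1 : ℚ) ≤ (hd k G' 1 : ℚ) + (hd k (cokernel r) 1 : ℚ) := by exact_mod_cast hmid
    rw [hadd, hj]
    change _ ≤ (CurveBddLib.mult k L G' + (j : ℚ)) * _
    change (hd k G' 1 : ℚ) ≤ _ at ih
    linarith

/-- Global sections are bounded through one submodule. -/
theorem exists_h0_bound {M : X.Modules} (hM : Coh.IsCoh M) :
    ∃ (H : X.Modules) (ι : H ⟶ M), Mono ι ∧ Coh.IsCoh H ∧
      (hd k M 0 : ℚ) ≤ (Curv2.euler k X H : ℚ) + CurveBddLib.mult k L H * (hd k (Coh.structureModule X) 1 : ℚ) := by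
  haveI := CurvLib.isNoetherian k (X := X)
  haveI : CompactSpace X := inferInstance
  let Fr : X.Modules := SheafOfModules.free (R := X.ringCatSheaf) Γ(M, ⊤)
  let p : Fr ⟶ M := M.freeHomEquiv.symm fun s => QCohLib.toSections M s
  have hfree : Coh.IsQCoh (SheafOfModules.free (R := X.ringCatSheaf) Γ(M, ⊤)) :=
    QCohLib.isQCoh_sigma (fun _ : Γ(M, ⊤) => Coh.structureModule X) (fun _ => QCohLib.isQCoh_unit)
  have hC : Coh.IsCoh (cokernel p) := QCohLib.isCoh_cokernel p hfree hM
  let G : X.Modules := kernel (cokernel.π p)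
  have hG : Coh.IsCoh G := QCohLib.isCoh_kernel _ hM hC.1
  have hGgg : Curv2.IsGloballyGenerated G :=
    ⟨Γ(M, ⊤), @Abelian.factorThruImage X.Modules _ _ Fr M p _ _, CurveBddLib.epi_factorThruImage p⟩
  let S : ShortComplex X.Modules := ShortComplex.mk (kernel.ι (cokernel.π p)) (cokernel.π p) (kernel.condition _)
  have hS : S.ShortExact :=
    { exact := ShortComplex.exact_of_f_is_kernel _ (kernelIsKernel _)
      mono_f := inferInstanceAs (Mono (kernel.ι (cokernel.π p)))
      epi_g := inferInstanceAs (Epi (cokernel.π p)) }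
  refine ⟨G, kernel.ι (cokernel.π p), inferInstance, hG, ?_⟩
  have hp : ∀ σ : Γ(M, ⊤), QCohLib.unitHom M σ ≫ cokernel.π p = 0 := fun σ => by
    have hσ : (show Coh.structureModule X ⟶ Fr from SheafOfModules.ιFree (R := X.ringCatSheaf) σ) ≫ p =
        QCohLib.unitHom M σ := QCohLib.ιFree_comp (fun s : Γ(M, ⊤) => s) σ
    rw [← hσ, Category.assoc, cokernel.condition, comp_zero]
  have hzero : ∀ x : Coh.HH X M 0, CurvLib.hMap (k := k) (cokernel.π p) 0 x = 0 := by
    intro x
    apply (DegPullLib.e0 (cokernel p)).injective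
    rw [map_zero]
    refine (RRVanLib.e0_map (k := k) (cokernel.π p) x).trans ?_
    have h2 := congr_arg (fun φ : Coh.structureModule X ⟶ cokernel p => φ.app ⊤ (1 : Γ(X, ⊤)))
      (hp (DegPullLib.e0 M x))
    change (cokernel.π p).app ⊤ ((QCohLib.unitHom M (DegPullLib.e0 M x)).app ⊤ (1 : Γ(X, ⊤))) = 0 at h2
    rw [QCohLib.unitHom_app, one_smul] at h2
    exact (congrArg ((cokernel.π p).app ⊤) (AmpleLib.res_refl M _).symm).trans h2
  haveI := CurvLib.finite_HH (k := k) hG 0
  have hle : hd k M 0 ≤ hd k G 0 := by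
    refine LinearMap.finrank_le_finrank_of_surjective (f := CurvLib.hMap (k := k) (kernel.ι (cokernel.π p)) 0) fun y => ?_
    have hy : y ∈ LinearMap.ker (CurvLib.hMap (k := k) S.g 0) := LinearMap.mem_ker.2 (hzero y)
    rw [← CurvLib.exact₂ hS 0] at hy
    exact hy
  obtain ⟨m, q, hq⟩ := VBResLib.exists_epi_free_of_gg hG hGgg
  have h1 := h1_le_of_free (k := k) hdim hA m hG q hq
  have hle' : (hd k M 0 : ℚ) ≤ (hd k G 0 : ℚ) := by exact_mod_cast hle
  rw [euler_eq hdim]
  linarith

end DecShLib
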