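import Groth.Agent.DecShLib.Bounded
import Groth.Agent.DecShLib.Rank
import Groth.Agent.AlgSpLib.ReducedSmooth
import Mathlib.LinearAlgebra.FiniteDimensional.Basic

/-!
# The slope bound for parabolic tensor fields
-/

set_option autoImplicit false
set_option linter.style.haveILetI false
set_option maxHeartbeats 1000000
universe u

open CategoryTheory CategoryTheory.Limits AlgebraicGeometry
open StabLib HilbPolyLib DevissLib

noncomputable section

namespace DecShLib

variable {k : Type u} [Field k] {X : Scheme.{u}} [X.Over (Spec (CommRingCat.of k))]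
  {ν : ℕ} {I : Fin ν → X.IdealSheafData} {E : X.Modules} {K : ∀ i, Submodule k (ParSh.fibD X (I i) E)}
  {κ : Fin ν → ℚ}

theorem sub_parChi_nonneg (hκ : ∀ i, 0 < κ i ∧ κ i < 1) {F : X.Modules} (ι : F ⟶ E) :
    0 ≤ (Curv2.euler k X F : ℚ) - DecSh.parChi k I K κ ι := by
  rw [DecSh.parChi, sub_sub_cancel]
  exact Finset.sum_nonneg fun i _ => mul_nonneg (hκ i).1.le (Nat.cast_nonneg _)

theorem sub_parChi_le (hκ : ∀ i, 0 < κ i ∧ κ i < 1) {r : ℕ} (hr : 0 < r)
    (hK : ∀ i, Module.finrank k (ParSh.fibD X (I i) E ⧸ K i) = r) {F : X.Modules} (ι : F ⟶ E) :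
    (Curv2.euler k X F : ℚ) - DecSh.parChi k I K κ ι ≤ (r : ℚ) * ν := by
  rw [DecSh.parChi, sub_sub_cancel]
  have h : ∀ i ∈ (Finset.univ : Finset (Fin ν)),
      κ i * (Module.finrank k ((LinearMap.range (ParSh.fibDMap k X (I i) ι)).map (K i).mkQ) : ℚ) ≤ (r : ℚ) := by
    intro i _
    haveI : Module.Finite k (ParSh.fibD X (I i) E ⧸ K i) := Module.finite_of_finrank_pos (by rw [hK i]; exact hr)
    have h1 := Submodule.finrank_le ((LinearMap.range (ParSh.fibDMap k X (I i) ι)).map (K i).mkQ)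
    rw [hK i] at h1
    have h2 : (Module.finrank k ((LinearMap.range (ParSh.fibDMap k X (I i) ι)).map (K i).mkQ) : ℚ) ≤ (r : ℚ) := by
      exact_mod_cast h1
    calc κ i * _ ≤ 1 * (Module.finrank k ((LinearMap.range (ParSh.fibDMap k X (I i) ι)).map (K i).mkQ) : ℚ) :=
          mul_le_mul_of_nonneg_right (hκ i).2.le (Nat.cast_nonneg _)
      _ ≤ (r : ℚ) := by rw [one_mul]; exact h2
  refine (Finset.sum_le_sum h).trans ?_
  simp [mul_comm]

variable [IsProper (X ↘ Spec (CommRingCat.of k))] [IsReduced X]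

variable (k) in
include k in
/-- A nonzero submodule forces positive rank. -/
theorem rank_pos (hdim : topologicalKrullDim X ≤ (1 : ℕ)) {L : X.Modules} (hA : CohB1.IsAmple L)
    (hpure : ∀ x : X, ¬ IsOpen ({x} : Set X)) {r : ℕ} (hE : FlatMod.IsFinLocFreeOfRank r E)
    {F : X.Modules} (ι : F ⟶ E) [Mono ι] (hF : Coh.IsCoh F) (hF0 : ¬ IsZero F) : 0 < r := by
  have h1 := (mult_pos (k := k) hdim hA hpure (torsionFree_of_locFree hE) ι hF hF0).trans
    (mult_le (k := k) hdim hA ι hF (CurvLib.isCoh_of_locFree hE))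
  rw [mult_locFree hdim hA hE] at h1
  rcases Nat.eq_zero_or_pos r with rfl | h
  · simp at h1
  · exact h

/-- The bound on one subsheaf of a semistable parabolic tensor field. -/
theorem par_single (hdim : topologicalKrullDim X ≤ (1 : ℕ)) {L : X.Modules} (hA : CohB1.IsAmple L)
    (hpure : ∀ x : X, ¬ IsOpen ({x} : Set X)) {r : ℕ} (hE : FlatMod.IsFinLocFreeOfRank r E)
    (hK : ∀ i, Module.finrank k (ParSh.fibD X (I i) E ⧸ K i) = r) (hκ : ∀ i, 0 < κ i ∧ κ i < 1)
    {D : X.Modules} {a b : ℕ} (T : DecSh.TF E a b D) {δ : ℚ} (hδ : 0 ≤ δ) (hT : T.IsParSemistable k I K κ L δ)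
    {F : X.Modules} (ι : F ⟶ E) [Mono ι] (hF : Coh.IsCoh F) (hF0 : ¬ IsZero F) (hι : ¬ IsIso ι) :
    (DecSh.mult k X L E : ℚ) * (Curv2.euler k X F : ℚ) - (DecSh.mult k X L F : ℚ) * (Curv2.euler k X E : ℚ) ≤
      (DecSh.mult k X L E : ℚ) * ((r : ℚ) * ν + δ * a) := by
  have hEc := CurvLib.isCoh_of_locFree hE
  have hP : Coh.IsCoh ((Subobject.mk ι : Subobject E) : X.Modules) := QCohLib.isCoh_of_iso (Subobject.underlyingIso ι).symm hF
  have h := single_bound hδ (mult_nonneg (k := k) hdim hA hEc) hT ι hP hF0 hι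
  rw [mult_congr (k := k) hdim hA hP (Subobject.underlyingIso ι)] at h
  have hr := rank_pos k hdim hA hpure hE ι hF hF0
  have c1 := sub_parChi_le (k := k) (E := E) hκ hr hK (Subobject.mk ι).arrow
  rw [CurvLib.euler_congr (k := k) (Subobject.underlyingIso ι)] at c1
  have c2 := sub_parChi_nonneg (k := k) (E := E) (K := K) hκ (𝟙 E)
  have hFnn : (0 : ℚ) ≤ (DecSh.mult k X L F : ℚ) := by exact_mod_cast mult_nonneg (k := k) hdim hA hF
  have hEnn : (0 : ℚ) ≤ (DecSh.mult k X L E : ℚ) := by exact_mod_cast mult_nonneg (k := k) hdim hA hEc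
  have t1 := mul_le_mul_of_nonneg_left c1 hEnn
  have t2 := mul_le_mul_of_nonneg_left c2 hFnn
  have t3 : δ * (a : ℚ) * ((DecSh.mult k X L E : ℚ) - (DecSh.mult k X L F : ℚ)) ≤ δ * (a : ℚ) * (DecSh.mult k X L E : ℚ) :=
    mul_le_mul_of_nonneg_left (by linarith) (mul_nonneg hδ (Nat.cast_nonneg a))
  nlinarith

variable (k) in
/-- The uniform quotient bound of the semistable parabolic tensor fields. -/
theorem exists_par_good (hdim : topologicalKrullDim X ≤ (1 : ℕ)) {L : X.Modules} (hA : CohB1.IsAmple L)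
    (hpure : ∀ x : X, ¬ IsOpen ({x} : Set X)) {ν : ℕ} (I : Fin ν → X.IdealSheafData)
    (κ : Fin ν → ℚ) (hκ : ∀ i, 0 < κ i ∧ κ i < 1) (δ : ℚ) (hδ : 0 < δ) (r a b : ℕ) (d : ℤ) :
    ∃ (α e c : ℤ), ∀ E : X.Modules, FlatMod.IsFinLocFreeOfRank r E → Curv2.deg k X E r = d →
      ∀ (K : ∀ i, Submodule k (ParSh.fibD X (I i) E)),
        (∀ i, Module.finrank k (ParSh.fibD X (I i) E ⧸ K i) = r) →
        ∀ (D : X.Modules) (T : DecSh.TF E a b D), T.IsParSemistable k I K κ L δ →
          CurveBddLib.Good k L c E ∧ DecSh.mult k X L E = α ∧ Curv2.euler k X E = e := by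
  let α : ℤ := r * DecSh.mult k X L (Coh.structureModule X)
  let e : ℤ := d + r * Curv2.euler k X (Coh.structureModule X)
  let M : ℚ := ((max α 0 : ℤ) : ℚ) * ((r : ℚ) * (ν : ℚ) + δ * (a : ℚ))
  have hmax : (0 : ℚ) ≤ ((max α 0 : ℤ) : ℚ) := by exact_mod_cast le_max_right α 0
  have hC : (0 : ℚ) ≤ (r : ℚ) * (ν : ℚ) + δ * (a : ℚ) :=
    add_nonneg (mul_nonneg (Nat.cast_nonneg r) (Nat.cast_nonneg ν)) (mul_nonneg hδ.le (Nat.cast_nonneg a))
  have hM : 0 ≤ M := mul_nonneg hmax hC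
  refine ⟨α, e, ⌊((e : ℚ) - M) / (α : ℚ)⌋, fun E hEr hdeg K hK D T hT => ?_⟩
  have hEc := CurvLib.isCoh_of_locFree hEr
  have htf := torsionFree_of_locFree hEr
  have hα : DecSh.mult k X L E = α := mult_locFree hdim hA hEr
  have he : Curv2.euler k X E = e := by
    rw [Curv2.deg] at hdeg
    simp only [e]
    linarith
  refine ⟨good_of_bound hdim hA hpure hEc htf hM (fun G ι hι hG hG0 hni => ?_) ?_, hα, he⟩
  · refine (par_single (k := k) hdim hA hpure hEr hK hκ T hδ.le hT ι hG hG0 hni).trans ?_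
    rw [hα]
    exact mul_le_mul_of_nonneg_right (by exact_mod_cast le_max_left α 0) hC
  · have h0 : 0 ≤ α := hα ▸ mult_nonneg (k := k) hdim hA hEc
    rw [hα, he]
    rcases eq_or_lt_of_le h0 with h | h
    · have hz : IsZero E := by
        by_contra hne
        have := mult_pos (k := k) hdim hA hpure htf (𝟙 E) hEc hne
        omega
      have hz' : (Curv2.euler k X E : ℚ) = 0 := by
        rw [← coeff_zero_eq (k := k) hdim hA hEc, StabLib.hPoly_zero hA hz, Polynomial.coeff_zero]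
      rw [he] at hz'
      simp [M, hz', ← h]
    · exact (le_div_iff₀ (by exact_mod_cast h)).1 (Int.floor_le _)

end DecShLib
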