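import Groth.Agent.DecShLib.Bounded
import Groth.Agent.StabLib.Filt
import Groth.Agent.S1688
import Groth.Agent.CurveVBLib.Basic

/-!
# Pure sheaves on smooth curves are locally free
-/

set_option autoImplicit false
set_option linter.style.haveILetI false
set_option maxHeartbeats 1000000
universe u

open CategoryTheory CategoryTheory.Limits AlgebraicGeometry TopologicalSpace
open DevissLib

noncomputable section

namespace DecShLib

variable {X : Scheme.{u}}

/-- A pure module of dimension one has no associated closed point. -/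
theorem not_asso_closed [IsNoetherian X] {F : X.Modules} (hF : Coh.IsCoh F) (hp : ShStab.IsPure X F 1)
    {x : X} (hx : IsClosed ({x} : Set X)) : ¬ DevissLib.Asso F x := by
  rintro ⟨a, ha, hk⟩
  haveI := hF.1
  obtain ⟨W, hxW, s₁, hs₁⟩ := exists_gm_eq F x a
  obtain ⟨U, hU, hxU, hUW⟩ := Opens.isBasis_iff_nbhd.mp X.isBasis_affineOpens hxW
  have hs₂ : gm F x hxU (F.presheaf.map (homOfLE hUW).op s₁) = a := (gm_map F _ x hxU s₁).trans hs₁
  obtain ⟨r, hru, hrk⟩ := exists_section_killed hU hxU _ (hs₂.symm ▸ hk)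
  let s : Γ(F, U) := r • F.presheaf.map (homOfLE hUW).op s₁
  have hs : gm F x hxU s ≠ 0 := by
    rw [gm_smul, hs₂]; exact fun h => ha (hru.smul_eq_zero.mp h)
  let Y : X.Opens := ⟨({x} : Set X)ᶜ, hx.isOpen_compl⟩
  have : NoetherianSpace (↑Y : Scheme.{u}) := Y.ι.isOpenEmbedding.isInducing.noetherianSpace
  have : QuasiCompact Y.ι := ⟨fun V _ _ => TopologicalSpace.NoetherianSpace.isCompact _⟩
  let P := (Scheme.Modules.pushforward Y.ι).obj (F.restrict Y.ι)
  have hP : Coh.IsQCoh P := QCohLib.isQCoh_pushforward Y.ι _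
  let φ : F ⟶ P := (Scheme.Modules.restrictAdjunction Y.ι).unit.app F
  have hφ : ∀ (V : X.Opens) (z : Γ(F, V)), φ.app V z =
      F.presheaf.map (homOfLE (Y.ι.image_preimage_le V)).op z := fun V z =>
    congr($(Scheme.Modules.restrictAdjunction_unit_app_app Y.ι F V) z)
  have htz : φ.app U s = 0 := by
    rw [hφ]
    refine TopCat.Presheaf.section_ext ((QCohLib.toAbF X).obj F : TopCat.Sheaf AddCommGrpCat _)
      (Y.ι ''ᵁ (Y.ι ⁻¹ᵁ U)) _ _ fun y hy => ?_
    have hyU : y ∈ U := Y.ι.image_preimage_le U hy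
    have hyY : ¬ x ⤳ y := fun h' => by
      obtain ⟨w, -, rfl⟩ := hy
      exact w.2 (h'.mem_closed hx rfl)
    refine Eq.trans ?_ (map_zero (F.presheaf.germ _ y hy).hom).symm
    change gm F y hy _ = 0
    rw [gm_map]
    exact gm_eq_zero_of_killed hU hxU s hrk hyU hyY
  obtain ⟨t, ht⟩ := QCohLib.exists_of_app_eq_zero (S := ShortComplex.mk (kernel.ι φ) φ (kernel.condition φ))
    (ShortComplex.exact_of_f_is_kernel _ (kernelIsKernel φ)) inferInstance s htz
  have hH : Coh.IsCoh (kernel φ) := QCohLib.isCoh_kernel φ hF hP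
  have hsupp : CohB1.support (kernel φ) ⊆ {x} := by
    intro y hy
    by_contra hyx
    refine notMem_support_kernel φ y (fun p q hpq => ?_) hy
    rw [← sub_eq_zero, ← map_sub] at hpq
    rw [← sub_eq_zero]
    obtain ⟨V, hyV, z, hz⟩ := exists_gm_eq F y (p - q)
    rw [← hz] at hpq ⊢
    rw [gm_app] at hpq
    obtain ⟨V', hyV', i₁, i₂, hV'⟩ := TopCat.Presheaf.germ_eq P.presheaf y hyV hyV (φ.app V z) 0
      (hpq.trans (gm_zero P y hyV).symm)
    rw [map_zero] at hV'
    have hV'' : φ.app V' (F.presheaf.map i₁.op z) = 0 := (QCohLib.app_map φ i₁ z).trans hV'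
    rw [hφ] at hV''
    have hyV'' : y ∈ Y.ι ''ᵁ (Y.ι ⁻¹ᵁ V') := ⟨⟨y, hyx⟩, hyV', rfl⟩
    rw [← gm_map F i₁.le y hyV', ← gm_map F (Y.ι.image_preimage_le V') y hyV'']
    exact (congr_arg (gm F y hyV'') hV'').trans (gm_zero F y hyV'')
  have hne : ¬ IsZero (kernel φ) := fun hz => by
    refine hs ?_
    rw [← ht]
    refine (gm_app (kernel.ι φ) x hxU t).symm.trans ?_
    haveI : Subsingleton ((St x).obj (kernel φ)) := ModuleCat.subsingleton_of_isZero ((St x).map_isZero hz)
    rw [Subsingleton.elim (gm (kernel φ) x hxU t) 0, map_zero]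
  have h1 := hp (kernel φ) (kernel.ι φ) inferInstance hH hne
  haveI : Subsingleton (CohB1.support (kernel φ)) :=
    ⟨fun y z => Subtype.ext ((hsupp y.2).trans (hsupp z.2).symm)⟩
  have h2 : topologicalKrullDim (CohB1.support (kernel φ)) ≤ 0 := topologicalKrullDim_zero_of_discreteTopology _
  rw [h1] at h2
  exact absurd h2 (by norm_num)

/-- In dimension one a point with a non-field domain as local ring is closed. -/
theorem isClosed_of_not_field (hdim : topologicalKrullDim X ≤ (1 : ℕ)) (x : X) [IsDomain (X.presheaf.stalk x)]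
    (hf : ¬ IsField (X.presheaf.stalk x)) : IsClosed ({x} : Set X) := by
  by_contra hc
  obtain ⟨y, hxy, hne⟩ : ∃ y, x ⤳ y ∧ y ≠ x := by
    by_contra h
    push Not at h
    refine hc ?_
    rw [← closure_subset_iff_isClosed]
    exact fun y hy => h y (specializes_iff_mem_closure.2 hy)
  let R := X.presheaf.stalk x
  let b : PrimeSpectrum R := ⟨⊥, Ideal.isPrime_bot⟩
  have hzx : X.fromSpecStalk x b ⤳ x := by
    have h : X.fromSpecStalk x b ∈ Set.range (X.fromSpecStalk x) := ⟨b, rfl⟩
    rwa [Scheme.range_fromSpecStalk] at h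
  have hzne : X.fromSpecStalk x b ≠ x := by
    intro h
    refine hf (IsLocalRing.isField_iff_maximalIdeal_eq.2 ?_)
    have hb : b = IsLocalRing.closedPoint R :=
      (X.fromSpecStalk x).isEmbedding.injective (h.trans Scheme.fromSpecStalk_closedPoint.symm)
    exact (congrArg PrimeSpectrum.asIdeal hb).symm
  set z := X.fromSpecStalk x b
  let Cl : X → IrreducibleCloseds X := fun w =>
    ⟨closure {w}, isIrreducible_singleton.closure, isClosed_closure⟩
  have hlt : ∀ {w w' : X}, w' ⤳ w → w ≠ w' → Cl w < Cl w' := fun {w w'} h hne' => by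
    refine lt_of_le_of_ne (closure_minimal (Set.singleton_subset_iff.2 (specializes_iff_mem_closure.1 h)) isClosed_closure) fun he => hne' ?_
    have hmem : w' ∈ closure ({w} : Set X) := by
      change w' ∈ (Cl w : Set X)
      rw [he]; exact subset_closure rfl
    exact ((specializes_iff_mem_closure.2 hmem).antisymm h).eq
  let s : LTSeries (IrreducibleCloseds X) :=
    ((RelSeries.singleton _ (Cl y)).snoc (Cl x) (hlt hxy hne)).snoc (Cl z)
      (by rw [RelSeries.last_snoc]; exact hlt hzx hzne.symm)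
  have h2 := Order.LTSeries.length_le_krullDim s
  have h3 : ((s.length : ℕ∞) : WithBot ℕ∞) ≤ ((1 : ℕ) : WithBot ℕ∞) := h2.trans hdim
  have : s.length = 2 := rfl
  rw [this] at h3
  exact absurd h3 (by norm_num)

/-- On a smooth curve a pure coherent module of dimension one is finite locally free. -/
theorem isFinLocFree_of_pure [IsNoetherian X] {k : Type u} [Field k] [X.Over (Spec (CommRingCat.of k))]
    [Smooth (X ↘ Spec (CommRingCat.of k))] (hdim : topologicalKrullDim X ≤ (1 : ℕ)) {F : X.Modules}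
    (hF : Coh.IsCoh F) (hp : ShStab.IsPure X F 1) : FlatMod.IsFinLocFree F := by
  refine Groth.Agent.S1688.isFinLocFree_of_isFP_of_flat (QCohLib.isFP_of_isCoh F hF) fun x => ?_
  let R := X.presheaf.stalk x
  haveI hreg : IsRegularLocalRing R := CurveVBLib.regular_stalk (k := k) x
  haveI hdom : IsDomain R := CommAlgDim.isDomain_of_isRegularLocalRing R
  show Module.Flat R (F.presheaf.stalk x)
  by_cases hf : IsField R
  · letI := hf.toField
    exact Module.Flat.of_free
  have hcl := isClosed_of_not_field hdim x hf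
  obtain ⟨U, hU, hxU, -⟩ := exists_isAffineOpen_mem_and_subset (U := (⊤ : X.Opens)) (x := x) trivial
  have hd : ringKrullDim R ≤ 1 := by
    rw [SDivLib.ringKrullDim_stalk ⟨U, hU⟩ hxU]
    haveI : (SDivLib.prm ⟨U, hU⟩ hxU).IsPrime := SDivLib.prm_isPrime _ _
    refine (Ideal.height_le_ringKrullDim_of_ne_top (SDivLib.prm_isPrime ⟨U, hU⟩ hxU).ne_top).trans ?_
    rw [← PrimeSpectrum.topologicalKrullDim_eq_ringKrullDim]
    exact hU.fromSpec.isOpenEmbedding.isInducing.topologicalKrullDim_le.trans hdim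
  have h1 : Module.finrank (IsLocalRing.ResidueField R) (IsLocalRing.CotangentSpace R) ≤ 1 := by
    have e := (IsRegularLocalRing.iff_finrank_cotangentSpace R).1 inferInstance
    rw [← e] at hd
    exact_mod_cast hd
  haveI : IsPrincipalIdealRing R := ((tfae_of_isNoetherianRing_of_isLocalRing_of_isDomain R).out 5 0).1 h1
  haveI : IsDiscreteValuationRing R :=
    { toIsPrincipalIdealRing := inferInstance
      not_a_field' := fun e => hf (IsLocalRing.isField_iff_maximalIdeal_eq.2 e) }
  rw [Module.Flat.flat_iff_torsion_eq_bot_of_isBezout, eq_bot_iff]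
  rintro m ⟨⟨r, hr⟩, hm⟩
  by_contra hm0
  obtain ⟨ϖ, hϖ⟩ := IsDiscreteValuationRing.exists_irreducible R
  obtain ⟨n, v, rfl⟩ := IsDiscreteValuationRing.eq_unit_mul_pow_irreducible (nonZeroDivisors.ne_zero hr) hϖ
  have hpow : ϖ ^ n • m = 0 := by
    change ((v : R) * ϖ ^ n) • m = 0 at hm
    rw [mul_smul] at hm
    exact v.isUnit.smul_eq_zero.mp hm
  classical
  have hex : ∃ j, ϖ ^ j • m = 0 := ⟨n, hpow⟩
  have hj0 : Nat.find hex ≠ 0 := fun h => hm0 (by
    have := Nat.find_spec hex; rwa [h, pow_zero, one_smul] at this)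
  obtain ⟨j, hj⟩ := Nat.exists_eq_succ_of_ne_zero hj0
  refine not_asso_closed hF hp hcl ⟨ϖ ^ j • m, Nat.find_min hex (by omega), fun c hc => ?_⟩
  rw [hϖ.maximalIdeal_eq, Ideal.mem_span_singleton] at hc
  obtain ⟨d, rfl⟩ := hc
  have h0 : ϖ ^ (j + 1) • m = 0 := by
    have := Nat.find_spec hex; rwa [hj] at this
  change (ϖ * d) • ϖ ^ j • (m : F.presheaf.stalk x) = 0
  rw [smul_smul, show ϖ * d * ϖ ^ j = d * ϖ ^ (j + 1) by ring, mul_smul, h0, smul_zero]

end DecShLib
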