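import Groth.Agent.DecShLib.Bounded
import Groth.Agent.DecShLib.H0
import Groth.Agent.StabLib.Filt
import Mathlib.Data.Finset.Sort

/-!
# Sectional bounds for subsheaves and quotients of bounded families on curves
-/

set_option autoImplicit false
set_option linter.style.haveILetI false
set_option maxHeartbeats 1000000
universe u

open CategoryTheory CategoryTheory.Limits AlgebraicGeometry
open StabLib HilbPolyLib DevissLib AmpleLib AmpleThLib

noncomputable section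

namespace DecShLib

section Filt

variable {C : Type*} [Category C] {E : C} (αE : ℤ) (α : Subobject E → ℤ) {a : ℕ} (N : DecSh.NV E a)

/-- Dropping steps of a filtration. -/
theorem mu_sub (𝓕 𝓕₁ : DecSh.WFilt E) (e : Fin 𝓕₁.t → Fin 𝓕.t)
    (hpiece : ∀ j, 𝓕₁.piece j = 𝓕.piece (e j)) (hwt : ∀ j, 𝓕₁.wt j = 𝓕.wt (e j))
    (h1E : 1 ≤ αE) (hle : ∀ i, α (𝓕.piece i) ≤ αE) :
    𝓕.mu αE α N ≤ 𝓕₁.mu αE α N + ((∑ i, 𝓕.wt i) - ∑ j, 𝓕₁.wt j) * (a : ℚ) * ((αE : ℚ) - 1) := by
  classical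
  have hinj : Function.Injective e := fun j j' h => 𝓕₁.piece_strictMono.injective (by rw [hpiece, hpiece, h])
  obtain ⟨I₁, hI₁, hmu⟩ := 𝓕₁.exists_gam_eq_mu αE α N
  let g : Fin (𝓕₁.t + 1) → Fin (𝓕.t + 1) := Fin.lastCases (Fin.last 𝓕.t) fun j => (e j).castSucc
  have hX : ∀ j, 𝓕.pieceX (g j) = 𝓕₁.pieceX j := fun j => by
    induction j using Fin.lastCases with
    | last => simp [g]
    | cast m => simp [g, hpiece]
  have hM : ∀ j, 𝓕.mulX αE α (g j) = 𝓕₁.mulX αE α j := fun j => by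
    induction j using Fin.lastCases with
    | last => simp [g]
    | cast m => simp [g, hpiece]
  have hadm : 𝓕.Adm N (g ∘ I₁) := by
    unfold DecSh.WFilt.Adm
    rw [show (fun j => 𝓕.pieceX ((g ∘ I₁) j)) = fun j => 𝓕₁.pieceX (I₁ j) from funext fun j => hX (I₁ j)]
    exact hI₁
  refine (𝓕.mu_le_gam αE α N hadm).trans ?_
  rw [← hmu, DecSh.WFilt.gam, DecSh.WFilt.gam]
  let S : Finset (Fin 𝓕.t) := Finset.univ.image e
  have hsum : ∀ f : Fin 𝓕.t → ℚ, ∑ i, f i = (∑ j, f (e j)) + ∑ i ∈ Finset.univ \ S, f i := fun f => by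
    rw [← Finset.sum_sdiff (Finset.subset_univ S), add_comm, Finset.sum_image fun a _ b _ h => hinj h]
  have hnu : ∀ j, 𝓕.nu αE α (g ∘ I₁) (e j) = 𝓕₁.nu αE α I₁ j := fun j => by
    simp only [DecSh.WFilt.nu, Function.comp, hM, hpiece]
  rw [hsum, hsum 𝓕.wt]
  simp only [hnu, ← hpiece, ← hwt, add_sub_cancel_left]
  refine add_le_add le_rfl ?_
  rw [mul_assoc, Finset.sum_mul]
  exact Finset.sum_le_sum fun i _ =>
    mul_le_mul_of_nonneg_left (term_le 𝓕 αE α h1E hle (g ∘ I₁) i) (𝓕.wt_pos i).le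

/-- Semistability splits along the steps with exact and with very negative terms. -/
theorem split_bound {ok : Subobject E → Prop} {dE : ℚ} {d : Subobject E → ℚ} {δ : ℚ} (hδ : 0 ≤ δ)
    (hT : DecSh.IsDeltaSS ok αE α dE d N δ) (𝓕 : DecSh.WFilt E) (hok : ∀ i, ok (𝓕.piece i))
    (h1E : 1 ≤ αE) (hle : ∀ i, α (𝓕.piece i) ≤ αE) (f : Fin 𝓕.t → ℚ) (S : Finset (Fin 𝓕.t))
    (hgood : ∀ i ∈ S, f i ≤ (αE : ℚ) * d (𝓕.piece i) - (α (𝓕.piece i) : ℚ) * dE)
    (hbad : ∀ i, i ∉ S → f i + δ * (a : ℚ) * ((αE : ℚ) - 1) ≤ 0) :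
    (∑ i, 𝓕.wt i * f i) + δ * 𝓕.mu αE α N ≤ 0 := by
  classical
  have hsplit : ∀ h : Fin 𝓕.t → ℚ, ∑ i, h i = (∑ i ∈ S, h i) + ∑ i ∈ Finset.univ \ S, h i := fun h => by
    rw [← Finset.sum_sdiff (Finset.subset_univ S), add_comm]
  have hb : ∑ i ∈ Finset.univ \ S, 𝓕.wt i * f i ≤
      -((∑ i ∈ Finset.univ \ S, 𝓕.wt i) * (δ * (a : ℚ) * ((αE : ℚ) - 1))) := by
    rw [Finset.sum_mul, ← Finset.sum_neg_distrib]
    refine Finset.sum_le_sum fun i hi => ?_
    have h := mul_le_mul_of_nonneg_left (hbad i (Finset.mem_sdiff.1 hi).2) (𝓕.wt_pos i).le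
    linarith
  have hg : ∑ i ∈ S, 𝓕.wt i * f i ≤
      ∑ i ∈ S, 𝓕.wt i * ((αE : ℚ) * d (𝓕.piece i) - (α (𝓕.piece i) : ℚ) * dE) :=
    Finset.sum_le_sum fun i hi => mul_le_mul_of_nonneg_left (hgood i hi) (𝓕.wt_pos i).le
  rcases S.eq_empty_or_nonempty with hS | hS
  · subst hS
    have hmu := mul_le_mul_of_nonneg_left (mu_le 𝓕 αE α h1E hle N) hδ
    rw [Finset.sdiff_empty] at hb
    linarith
  · let σ := S.orderEmbOfFin rfl
    let 𝓕₁ : DecSh.WFilt E :=
      { t := S.card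
        t_pos := hS.card_pos
        piece := fun j => 𝓕.piece (σ j)
        wt := fun j => 𝓕.wt (σ j)
        piece_strictMono := 𝓕.piece_strictMono.comp σ.strictMono
        piece_ne_top := fun j => 𝓕.piece_ne_top _
        piece_nonzero := fun j => 𝓕.piece_nonzero _
        wt_pos := fun j => 𝓕.wt_pos _ }
    have hσ : ∀ h : Fin 𝓕.t → ℚ, ∑ j : Fin S.card, h (σ j) = ∑ i ∈ S, h i := fun h => by
      refine (Finset.sum_image (f := h) fun x _ y _ e => σ.injective e).symm.trans ?_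
      simp [σ, Finset.image_orderEmbOfFin_univ]
    have h1 := hT 𝓕₁ fun j => hok _
    have h2 := mul_le_mul_of_nonneg_left (mu_sub αE α N 𝓕 𝓕₁ σ (fun _ => rfl) (fun _ => rfl) h1E hle) hδ
    have e1 : 𝓕₁.msum αE α dE d = ∑ i ∈ S, 𝓕.wt i * ((αE : ℚ) * d (𝓕.piece i) - (α (𝓕.piece i) : ℚ) * dE) := by
      unfold DecSh.WFilt.msum
      exact hσ fun i => 𝓕.wt i * ((αE : ℚ) * d (𝓕.piece i) - (α (𝓕.piece i) : ℚ) * dE)
    have e2 : (∑ i, 𝓕.wt i) - ∑ j, 𝓕₁.wt j = ∑ i ∈ Finset.univ \ S, 𝓕.wt i := by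
      rw [hsplit 𝓕.wt, show (∑ j, 𝓕₁.wt j) = ∑ i ∈ S, 𝓕.wt i from hσ 𝓕.wt, add_sub_cancel_left]
    rw [e2] at h2
    rw [e1] at h1
    rw [hsplit]
    linarith

end Filt

variable {k : Type u} [Field k] {X : Scheme.{u}} [X.Over (Spec (CommRingCat.of k))]
  [IsProper (X ↘ Spec (CommRingCat.of k))] (hdim : topologicalKrullDim X ≤ (1 : ℕ))
  {L : X.Modules} (hA : CohB1.IsAmple L)

include hdim hA

/-- The Euler characteristic of a twist. -/
theorem euler_tw' {F : X.Modules} (hF : Coh.IsCoh F) (m : ℕ) :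
    (Curv2.euler k X ((CurveBddLib.tw L m).obj F) : ℚ) =
      (Curv2.euler k X F : ℚ) + (DecSh.mult k X L F : ℚ) * (m : ℚ) := by
  rw [CurveBddLib.euler_tw (k := k) hdim hA hF, coeff_zero_eq hdim hA hF, mult_eq hdim hA hF]

omit hdim hA in
theorem hd_twist (F : X.Modules) (m : ℕ) :
    hd k (ShStab.twist X L F m) 0 = hd k ((CurveBddLib.tw L m).obj F) 0 :=
  hd_congr (HilbPolyLib.swapIso _ _) 0

theorem euler_shTwist {F : X.Modules} (hF : Coh.IsCoh F) (m : ℕ) :
    (Curv2.euler k X (ShStab.twist X L F m) : ℚ) =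
      (Curv2.euler k X F : ℚ) + (DecSh.mult k X L F : ℚ) * (m : ℚ) := by
  rw [← euler_tw' hdim hA hF m]
  exact_mod_cast CurvLib.euler_congr (k := k) (HilbPolyLib.swapIso F (CohB1.tensorPow L m))

theorem euler_add' {S : ShortComplex X.Modules} (hS : S.ShortExact) (h₁ : Coh.IsCoh S.X₁)
    (h₂ : Coh.IsCoh S.X₂) (h₃ : Coh.IsCoh S.X₃) :
    (Curv2.euler k X S.X₂ : ℚ) = Curv2.euler k X S.X₁ + Curv2.euler k X S.X₃ := by
  rw [← coeff_zero_eq (k := k) hdim hA h₁, ← coeff_zero_eq (k := k) hdim hA h₂, ← coeff_zero_eq (k := k) hdim hA h₃,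
    hPoly_add (k := k) hA hS h₁ h₂ h₃, Polynomial.coeff_add]

theorem coker_data {E F : X.Modules} (ι : F ⟶ E) [Mono ι] (hF : Coh.IsCoh F) (hE : Coh.IsCoh E) :
    Coh.IsCoh (cokernel ι) ∧
      (DecSh.mult k X L E : ℚ) = DecSh.mult k X L F + DecSh.mult k X L (cokernel ι) ∧
      (Curv2.euler k X E : ℚ) = Curv2.euler k X F + Curv2.euler k X (cokernel ι) := by
  haveI := CurvLib.isNoetherian k (X := X)
  have hC := QCohLib.isCoh_cokernel ι hF.1 hE
  refine ⟨hC, by exact_mod_cast mult_quot (k := k) hdim hA ι hF hE, ?_⟩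
  exact euler_add' hdim hA (S := ShortComplex.mk ι (cokernel.π ι) (cokernel.condition ι))
    (ShortComplex.ShortExact.mk (ShortComplex.exact_cokernel ι)) hF hE hC

theorem ker_data {E Q : X.Modules} (π : E ⟶ Q) [Epi π] (hE : Coh.IsCoh E) (hQ : Coh.IsCoh Q) :
    Coh.IsCoh (kernel π) ∧
      (DecSh.mult k X L E : ℚ) = DecSh.mult k X L (kernel π) + DecSh.mult k X L Q ∧
      (Curv2.euler k X E : ℚ) = Curv2.euler k X (kernel π) + Curv2.euler k X Q := by
  haveI := CurvLib.isNoetherian k (X := X)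
  have hK := QCohLib.isCoh_kernel π hE hQ.1
  have hS : (ShortComplex.mk (kernel.ι π) π (kernel.condition π)).ShortExact :=
    ShortComplex.ShortExact.mk (ShortComplex.exact_kernel π)
  refine ⟨hK, by exact_mod_cast mult_add' (k := k) hdim hA hS hK hE hQ, ?_⟩
  exact euler_add' hdim hA (S := ShortComplex.mk (kernel.ι π) π (kernel.condition π)) hS hK hE hQ

/-- A module of multiplicity zero has nonnegative Euler characteristic. -/
theorem euler_nonneg {F : X.Modules} (hF : Coh.IsCoh F) (h0 : DecSh.mult k X L F = 0) :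
    0 ≤ (Curv2.euler k X F : ℚ) := by
  have h : CurveBddLib.mult k L F = 0 := by rw [← mult_eq hdim hA hF, h0]; simp
  have h1 : Subsingleton (Coh.HH X F 1) :=
    SerreVanLib.subsingleton_HH_of_iso (HilbPolyLib.unitLeft F).symm 1
      (CurveBddLib.vanish_of_mult_eq_zero (k := k) hdim hA hF h 0)
  rw [← h0_eq_euler hdim h1]
  exact Nat.cast_nonneg _

theorem euler_sub_le {E F : X.Modules} (ι : F ⟶ E) [Mono ι] (hF : Coh.IsCoh F) (hE : Coh.IsCoh E)
    (h : DecSh.mult k X L F = DecSh.mult k X L E) : (Curv2.euler k X F : ℚ) ≤ (Curv2.euler k X E : ℚ) := by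
  obtain ⟨hC, -, h2⟩ := coker_data (k := k) hdim hA ι hF hE
  have h3 := euler_nonneg (k := k) hdim hA hC (by have := mult_quot (k := k) hdim hA ι hF hE; omega)
  linarith

omit [Field k] [X.Over (Spec (CommRingCat.of k))] [IsProper (X ↘ Spec (CommRingCat.of k))] hdim in
/-- Submodules of a twist come from submodules. -/
theorem exists_untwist_mono {M H : X.Modules} (m : ℕ) (ι : H ⟶ (CurveBddLib.tw L m).obj M) [Mono ι]
    (hH : Coh.IsCoh H) :
    ∃ (H₀ : X.Modules) (ι₀ : H₀ ⟶ M), Mono ι₀ ∧ Coh.IsCoh H₀ ∧ Nonempty ((CurveBddLib.tw L m).obj H₀ ≅ H) := by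
  have hP := tensorPow_isInvertible hA.1 m
  obtain ⟨e⟩ := MiscFlat6.nonempty_dualIso hP
  let N := MiscFlat6.dual (CohB1.tensorPow L m)
  have hN : PicF.IsInvertible N := MiscFlat6.dual_isInvertible hP
  let f : M ≅ (CurvLib.tensorLeft' N).obj ((CurveBddLib.tw L m).obj M) :=
    (HilbPolyLib.unitLeft M).symm ≪≫ HilbPolyLib.congrLeft (e.symm ≪≫ HilbPolyLib.swapIso _ _) M ≪≫
      HilbPolyLib.assocIso _ _ _
  haveI : (CurvLib.tensorLeft' N).IsEquivalence :=
    VBP1Lib.isEquivalence_tensor (L := N) (M := CohB1.tensorPow L m) (HilbPolyLib.swapIso _ _ ≪≫ e)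
  have hm : Mono ((CurvLib.tensorLeft' N).map ι) := by
    haveI : (CurvLib.tensorLeft' N).IsRightAdjoint := Functor.isRightAdjoint_of_isEquivalence
    exact (CurvLib.tensorLeft' N).map_mono ι
  exact ⟨(CurvLib.tensorLeft' N).obj H, (CurvLib.tensorLeft' N).map ι ≫ f.inv,
    @mono_comp _ _ _ _ _ _ hm _ inferInstance, HilbPolyLib.isCoh_tensor hN hH,
    ⟨(HilbPolyLib.assocIso _ _ _).symm ≪≫ HilbPolyLib.congrLeft e H ≪≫ HilbPolyLib.unitLeft H⟩⟩

/-- Global sections of a twist are bounded through one submodule. -/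
theorem exists_h0_tw_bound {M : X.Modules} (hM : Coh.IsCoh M) (m : ℕ) :
    ∃ (H : X.Modules) (ι : H ⟶ M), Mono ι ∧ Coh.IsCoh H ∧
      (hd k ((CurveBddLib.tw L m).obj M) 0 : ℚ) ≤ (Curv2.euler k X H : ℚ) +
        (DecSh.mult k X L H : ℚ) * ((m : ℚ) + (hd k (Coh.structureModule X) 1 : ℚ)) := by
  obtain ⟨H', ι', hι', hH', hb⟩ := exists_h0_bound (k := k) hdim hA (CurveBddLib.isCoh_tw hdim hA hM m)
  haveI := hι'
  obtain ⟨H, ι, hι, hH, ⟨e⟩⟩ := exists_untwist_mono hA m ι' hH'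
  refine ⟨H, ι, hι, hH, hb.trans (le_of_eq ?_)⟩
  rw [← CurvLib.euler_congr (k := k) e, euler_tw' hdim hA hH, CurveBddLib.mult, ← hPoly_congr (k := k) hA
    (CurveBddLib.isCoh_tw hdim hA hH m) e, ← CurveBddLib.mult, CurveBddLib.mult_tw hdim hA hH, ← mult_eq hdim hA hH]
  ring

variable (k) in
omit [IsProper (X ↘ Spec (CommRingCat.of k))] hdim hA in
/-- Every submodule has slope at most `B`. -/
def SubB (L : X.Modules) (B : ℚ) (E : X.Modules) : Prop :=
  ∀ (F : X.Modules) (ι : F ⟶ E), Mono ι → Coh.IsCoh F →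
    (Curv2.euler k X F : ℚ) ≤ B * (DecSh.mult k X L F : ℚ)

/-- A bound on quotients bounds submodules. -/
theorem subB_of_good [IsReduced X] (hpure : ∀ x : X, ¬ IsOpen ({x} : Set X)) {c : ℤ} {E : X.Modules}
    (hg : CurveBddLib.Good k L c E) (htf : TorSh.IsTorsionFree E) {A : ℕ} (hαA : DecSh.mult k X L E ≤ (A : ℤ))
    {B : ℚ} (hB : |(Curv2.euler k X E : ℚ)| + |(c : ℚ)| * (A : ℚ) ≤ B) : SubB k L B E := by
  intro F ι hι hF
  haveI := hι
  by_cases h0 : IsZero F
  · have e1 : (Curv2.euler k X F : ℚ) = 0 := by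
      rw [← coeff_zero_eq (k := k) hdim hA hF, hPoly_zero hA h0, Polynomial.coeff_zero]
    have e2 : (DecSh.mult k X L F : ℚ) = 0 := by
      rw [mult_eq hdim hA hF, CurveBddLib.mult, hPoly_zero hA h0]
      simp [StabCat.alpha]
    rw [e1, e2, mul_zero]
  have hF1 : (1 : ℚ) ≤ (DecSh.mult k X L F : ℚ) := by exact_mod_cast mult_pos (k := k) hdim hA hpure htf ι hF h0
  obtain ⟨hC, h1, h2⟩ := coker_data (k := k) hdim hA ι hF hg.1
  have hA' : (DecSh.mult k X L E : ℚ) ≤ (A : ℚ) := by exact_mod_cast hαA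
  have hC0 : (0 : ℚ) ≤ (DecSh.mult k X L (cokernel ι) : ℚ) := by exact_mod_cast mult_nonneg (k := k) hdim hA hC
  have hχ : (Curv2.euler k X F : ℚ) ≤ B := by
    refine le_trans ?_ hB
    have hle := le_abs_self (Curv2.euler k X E : ℚ)
    have hnn : 0 ≤ |(c : ℚ)| * (A : ℚ) := mul_nonneg (abs_nonneg _) (Nat.cast_nonneg _)
    rcases eq_or_lt_of_le hC0 with h | h
    · have := euler_nonneg (k := k) hdim hA hC (by exact_mod_cast h.symm)
      linarith
    · have hq := hg.2 (cokernel ι) (cokernel.π ι) inferInstance hC (by rw [← mult_eq hdim hA hC]; exact h)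
      rw [coeff_zero_eq hdim hA hC, ← mult_eq hdim hA hC] at hq
      have h3 : -(|(c : ℚ)| * (A : ℚ)) ≤ (c : ℚ) * (DecSh.mult k X L (cokernel ι) : ℚ) := by
        have h4 : (DecSh.mult k X L (cokernel ι) : ℚ) ≤ (A : ℚ) := by linarith
        nlinarith [neg_abs_le (c : ℚ), abs_nonneg (c : ℚ)]
      linarith
  have hB0 : 0 ≤ B := le_trans (by positivity) hB
  nlinarith

/-- Submodules are either very negative on sections or belong to a bounded family. -/
theorem exists_dichotomy (B s R : ℚ) (A : ℕ) :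
    ∃ (c : ℤ) (N : ℕ), ∀ E : X.Modules, Coh.IsCoh E → SubB k L B E → DecSh.mult k X L E ≤ (A : ℤ) →
      ∀ (G : X.Modules) (ι : G ⟶ E), Mono ι → Coh.IsCoh G → ∀ m : ℕ, N ≤ m →
        (hd k ((CurveBddLib.tw L m).obj G) 0 : ℚ) ≤ (DecSh.mult k X L G : ℚ) * (s + (m : ℚ)) - R ∨
          CurveBddLib.Good k L c G := by
  let g : ℚ := (hd k (Coh.structureModule X) 1 : ℚ)
  let c : ℤ := ⌊B - ((A : ℚ) * |s - g - B| + |R|)⌋
  refine ⟨c, ⌈(A : ℚ) * |B + g - s| + |R| + |B + g|⌉₊, fun E hE hB hαA G ι hι hG m hm => ?_⟩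
  haveI := hι
  have hmq : (A : ℚ) * |B + g - s| + |R| + |B + g| ≤ (m : ℚ) := Nat.ceil_le.1 hm
  have hG0 : (0 : ℚ) ≤ (DecSh.mult k X L G : ℚ) := by exact_mod_cast mult_nonneg (k := k) hdim hA hG
  have hGA : (DecSh.mult k X L G : ℚ) ≤ (A : ℚ) := by
    exact_mod_cast (mult_le (k := k) hdim hA ι hG hE).trans hαA
  have hgood : (DecSh.mult k X L G : ℚ) * (s - g) - R < (Curv2.euler k X G : ℚ) ∨ DecSh.mult k X L G = 0 →
      CurveBddLib.Good k L c G := by
    intro hh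
    refine ⟨hG, fun Q π hπ hQ hpos => ?_⟩
    haveI := hπ
    obtain ⟨hK, h1, h2⟩ := ker_data (k := k) hdim hA π hG hQ
    rw [coeff_zero_eq hdim hA hQ, ← mult_eq hdim hA hQ]
    rw [← mult_eq hdim hA hQ] at hpos
    have hQ1 : (1 : ℚ) ≤ (DecSh.mult k X L Q : ℚ) := by
      have : 0 < DecSh.mult k X L Q := by exact_mod_cast hpos
      exact_mod_cast this
    have hK0 : (0 : ℚ) ≤ (DecSh.mult k X L (kernel π) : ℚ) := by exact_mod_cast mult_nonneg (k := k) hdim hA hK
    rcases hh with hh | hh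
    · have hKB := hB (kernel π) (kernel.ι π ≫ ι) (mono_comp _ _) hK
      have hX0 : 0 ≤ (A : ℚ) * |s - g - B| + |R| := by positivity
      have hc : (c : ℚ) ≤ B - ((A : ℚ) * |s - g - B| + |R|) := Int.floor_le _
      have t1 : -((A : ℚ) * |s - g - B|) ≤ (DecSh.mult k X L G : ℚ) * (s - g - B) := by
        nlinarith [neg_abs_le (s - g - B), abs_nonneg (s - g - B)]
      have t2 := mul_le_mul_of_nonneg_right hc (le_trans zero_le_one hQ1)
      have t3 := le_mul_of_one_le_right hX0 hQ1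
      have t4 := le_abs_self R
      have t5 : B * (DecSh.mult k X L (kernel π) : ℚ) =
          B * (DecSh.mult k X L G : ℚ) - B * (DecSh.mult k X L Q : ℚ) := by rw [h1]; ring
      linarith
    · rw [hh] at h1
      push_cast at h1
      linarith
  obtain ⟨H, j, hj, hH, hb⟩ := exists_h0_tw_bound (k := k) hdim hA hG m
  haveI := hj
  by_cases h0 : DecSh.mult k X L G = 0
  · exact Or.inr (hgood (Or.inr h0))
  have hG1 : (1 : ℚ) ≤ (DecSh.mult k X L G : ℚ) := by
    have : 1 ≤ DecSh.mult k X L G := by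
      have := mult_nonneg (k := k) hdim hA hG
      omega
    exact_mod_cast this
  rcases lt_or_eq_of_le (mult_le (k := k) hdim hA j hH hG) with hlt | heq
  · left
    have hH1 : (DecSh.mult k X L H : ℚ) ≤ (DecSh.mult k X L G : ℚ) - 1 := by
      have : DecSh.mult k X L H ≤ DecSh.mult k X L G - 1 := by omega
      exact_mod_cast this
    have hHB := hB H (j ≫ ι) (mono_comp _ _) hH
    have hbase : 0 ≤ B + (m : ℚ) + g := by
      nlinarith [neg_abs_le (B + g), abs_nonneg R, abs_nonneg (B + g - s), (Nat.cast_nonneg A : (0 : ℚ) ≤ A)]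
    have t1 : (DecSh.mult k X L G : ℚ) * (B + g - s) ≤ (A : ℚ) * |B + g - s| := by
      nlinarith [le_abs_self (B + g - s), abs_nonneg (B + g - s)]
    have t2 := mul_le_mul_of_nonneg_right hH1 hbase
    nlinarith [le_abs_self R, neg_abs_le (B + g)]
  · by_cases hχ : (DecSh.mult k X L G : ℚ) * (s - g) - R < (Curv2.euler k X G : ℚ)
    · exact Or.inr (hgood (Or.inl hχ))
    · left
      have hle := euler_sub_le (k := k) hdim hA j hH hG heq
      rw [heq] at hb
      linarith [not_lt.1 hχ]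

/-- A lower bound on the sections of quotients bounds the family. -/
theorem good_of_h0 [IsReduced X] {E : X.Modules}
    (hE : Coh.IsCoh E) {s : ℚ} {c : ℤ} {m : ℕ}
    (hc : (c : ℚ) + (hd k (Coh.structureModule X) 1 : ℚ) < s)
    (hcm : 0 ≤ (c : ℚ) + (m : ℚ) + (hd k (Coh.structureModule X) 1 : ℚ))
    (hcE : (c : ℚ) * (DecSh.mult k X L E : ℚ) ≤ (Curv2.euler k X E : ℚ))
    (hQ : ∀ (G : X.Modules) (ι : G ⟶ E), Mono ι → Coh.IsCoh G → ¬ IsZero G → ¬ IsIso ι →
      DecSh.mult k X L G < DecSh.mult k X L E →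
      (DecSh.mult k X L (cokernel ι) : ℚ) * (s + (m : ℚ)) ≤ (hd k ((CurveBddLib.tw L m).obj (cokernel ι)) 0 : ℚ)) :
    CurveBddLib.Good k L c E := by
  haveI := CurvLib.isNoetherian k (X := X)
  suffices key : ∀ (n : ℕ) (Q : X.Modules) (π : E ⟶ Q), Epi π → Coh.IsCoh Q → DecSh.mult k X L Q = (n : ℤ) →
      0 < n → (c : ℚ) * (n : ℚ) ≤ (Curv2.euler k X Q : ℚ) by
    refine ⟨hE, fun Q π hπ hQc hpos => ?_⟩
    rw [coeff_zero_eq hdim hA hQc, ← mult_eq hdim hA hQc]
    rw [← mult_eq hdim hA hQc] at hpos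
    obtain ⟨n, hn⟩ := Int.eq_ofNat_of_zero_le (mult_nonneg (k := k) hdim hA hQc)
    rw [hn] at hpos ⊢
    push_cast at hpos ⊢
    exact key n Q π hπ hQc hn (by exact_mod_cast hpos)
  intro n
  induction n using Nat.strong_induction_on with
  | _ n IH =>
  intro Q π hπ hQc hn hn0
  haveI := hπ
  by_contra hbad
  obtain ⟨hK, hK1, hK2⟩ := ker_data (k := k) hdim hA π hE hQc
  obtain ⟨F', ι', hι', hF', hα', hnn, -, hpure'⟩ := StabLib.exists_saturation (k := k) (d := 1) hA hE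
    (CurveBddLib.dim_support_le hdim E) (kernel.ι π) hK
  haveI := hι'
  have hFm : (DecSh.mult k X L F' : ℚ) = DecSh.mult k X L (kernel π) := by
    rw [mult_eq hdim hA hF', mult_eq hdim hA hK]
    exact hα'
  have hFχ : (Curv2.euler k X (kernel π) : ℚ) ≤ (Curv2.euler k X F' : ℚ) := by
    rw [← coeff_zero_eq (k := k) hdim hA hF', ← coeff_zero_eq (k := k) hdim hA hK]
    have h := StabLib.coeff_nonneg (d := 0) ?_ hnn
    · rw [Polynomial.coeff_sub] at h
      linarith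
    · rw [Polynomial.natDegree_le_iff_coeff_eq_zero]
      intro i hi
      rcases (show i = 1 ∨ 1 < i by omega) with rfl | hi1
      · simp only [StabCat.alpha, Nat.factorial_one, Nat.cast_one, one_mul] at hα'
        rw [Polynomial.coeff_sub, hα', sub_self]
      · rw [Polynomial.coeff_sub, Polynomial.coeff_eq_zero_of_natDegree_lt (lt_of_le_of_lt
          (hPoly_deg (k := k) hA hF' (CurveBddLib.dim_support_le hdim F')) hi1),
          Polynomial.coeff_eq_zero_of_natDegree_lt (lt_of_le_of_lt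
          (hPoly_deg (k := k) hA hK (CurveBddLib.dim_support_le hdim _)) hi1), sub_self]
  have hnq : (DecSh.mult k X L Q : ℚ) = (n : ℚ) := by rw [hn]; simp
  have hnpos : (0 : ℚ) < (n : ℚ) := by exact_mod_cast hn0
  have hne : DecSh.mult k X L F' < DecSh.mult k X L E := by
    have : (DecSh.mult k X L F' : ℚ) < (DecSh.mult k X L E : ℚ) := by linarith
    exact_mod_cast this
  have hni : ¬ IsIso ι' := fun hi => hne.ne (mult_congr (k := k) hdim hA hF' (asIso ι'))
  obtain ⟨hC, hC1, hC2⟩ := coker_data (k := k) hdim hA ι' hF' hE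
  let C := cokernel ι'
  have hCn : DecSh.mult k X L C = (n : ℤ) := by
    have : (DecSh.mult k X L C : ℚ) = (n : ℚ) := by linarith
    exact_mod_cast this
  have hCq : (DecSh.mult k X L C : ℚ) = (n : ℚ) := by rw [hCn]; simp
  have hCχ : (Curv2.euler k X C : ℚ) < (c : ℚ) * (n : ℚ) := by linarith [not_le.1 hbad]
  by_cases hz : IsZero F'
  · have e1 : (Curv2.euler k X F' : ℚ) = 0 := by
      rw [← coeff_zero_eq (k := k) hdim hA hF', hPoly_zero hA hz, Polynomial.coeff_zero]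
    have e2 : (DecSh.mult k X L F' : ℚ) = 0 := by
      rw [mult_eq hdim hA hF', CurveBddLib.mult, hPoly_zero hA hz]
      simp [StabCat.alpha]
    rw [show (DecSh.mult k X L E : ℚ) = (n : ℚ) by linarith] at hcE
    linarith
  have hCp : ShStab.IsPure X C 1 := hpure'.resolve_left hni
  obtain ⟨H, j, hj, hH, hb⟩ := exists_h0_tw_bound (k := k) hdim hA hC m
  haveI := hj
  have hlow := hQ F' ι' hι' hF' hz hni hne
  rw [hCq] at hlow
  obtain ⟨hD, hD1, hD2⟩ := coker_data (k := k) hdim hA j hH hC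
  by_cases hHz : IsZero H
  · have e1 : (Curv2.euler k X H : ℚ) = 0 := by
      rw [← coeff_zero_eq (k := k) hdim hA hH, hPoly_zero hA hHz, Polynomial.coeff_zero]
    have e2 : (DecSh.mult k X L H : ℚ) = 0 := by
      rw [mult_eq hdim hA hH, CurveBddLib.mult, hPoly_zero hA hHz]
      simp [StabCat.alpha]
    rw [e1, e2, zero_mul, add_zero] at hb
    have : (n : ℚ) * (s + (m : ℚ)) ≤ 0 := hlow.trans hb
    nlinarith
  have hH1 : 1 ≤ DecSh.mult k X L H := by
    have h : (0 : ℚ) < (DecSh.mult k X L H : ℚ) := by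
      rw [mult_eq hdim hA hH]
      exact StabLib.alpha_pos_of_pure hA hCp j hH hHz
    have h' : 0 < DecSh.mult k X L H := by exact_mod_cast h
    omega
  obtain ⟨p, hp⟩ := Int.eq_ofNat_of_zero_le (mult_nonneg (k := k) hdim hA hD)
  have hpq : (DecSh.mult k X L (cokernel j) : ℚ) = (p : ℚ) := by rw [hp]; simp
  have hHχ : (Curv2.euler k X H : ℚ) < (c : ℚ) * (DecSh.mult k X L H : ℚ) := by
    rcases Nat.eq_zero_or_pos p with hp0 | hp0
    · have := euler_nonneg (k := k) hdim hA hD (by rw [hp, hp0]; simp)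
      rw [hp0, Nat.cast_zero] at hpq
      rw [show (DecSh.mult k X L H : ℚ) = (n : ℚ) by linarith]
      linarith
    · have hlt : p < n := by
        have : (p : ℚ) < (n : ℚ) := by
          have : (1 : ℚ) ≤ (DecSh.mult k X L H : ℚ) := by exact_mod_cast hH1
          linarith
        exact_mod_cast this
      have := IH p hlt (cokernel j) (cokernel.π ι' ≫ cokernel.π j) (epi_comp _ _) hD hp hp0
      rw [show (DecSh.mult k X L H : ℚ) = (n : ℚ) - (p : ℚ) by linarith]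
      linarith
  have hHn : (DecSh.mult k X L H : ℚ) ≤ (n : ℚ) := by
    have := mult_le (k := k) hdim hA j hH hC
    rw [hCn] at this
    exact_mod_cast this
  have t := mul_le_mul_of_nonneg_right hHn hcm
  have t2 : (n : ℚ) * ((c : ℚ) + (hd k (Coh.structureModule X) 1 : ℚ)) < (n : ℚ) * s := mul_lt_mul_of_pos_left hc hnpos
  linarith

end DecShLib
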