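import Groth.Agent.DecShLib.Sect2

/-!
# The equivalences for the sectional conditions
-/

set_option autoImplicit false
set_option linter.style.haveILetI false
set_option maxHeartbeats 1000000
universe u

open CategoryTheory CategoryTheory.Limits AlgebraicGeometry
open StabLib HilbPolyLib DevissLib

noncomputable section

namespace DecShLib

variable {k : Type u} [Field k] {X : Scheme.{u}} [X.Over (Spec (CommRingCat.of k))]
  [IsProper (X ↘ Spec (CommRingCat.of k))] [IsReduced X] (hdim : topologicalKrullDim X ≤ (1 : ℕ))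
  {L : X.Modules} (hA : CohB1.IsAmple L) (hpure : ∀ x : X, ¬ IsOpen ({x} : Set X))

variable (k) in
/-- The sectional expression of one piece. -/
def subTerm (L : X.Modules) (α : ℤ) (m : ℕ) (E P : X.Modules) : ℚ :=
  (α : ℚ) * (Module.finrank k (Coh.HH X (ShStab.twist X L P m) 0) : ℚ) -
    (DecSh.mult k X L P : ℚ) * (Curv2.euler k X (ShStab.twist X L E m) : ℚ)

variable (k) in
/-- The sectional condition on submodules. -/
def SCond (L : X.Modules) {E D : X.Modules} {a b : ℕ} (T : DecSh.TF E a b D) (δ : ℚ) (α : ℤ) (m : ℕ) : Prop :=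
  ∀ 𝓕 : DecSh.WFilt E, (∀ i, Coh.IsCoh ((𝓕.piece i : Subobject E) : X.Modules)) →
    (∑ i, 𝓕.wt i * subTerm k L α m E ((𝓕.piece i : Subobject E) : X.Modules)) + δ * T.mu k L 𝓕 ≤ 0

include hdim hA hpure

variable (k) in
/-- Uniformly, the expression of a piece is linear or very negative. -/
theorem exists_sub_terms {δ : ℚ} (hδ : 0 < δ) (α e : ℤ) (a : ℕ) :
    ∃ N : ℕ, ∀ m : ℕ, N ≤ m → ∀ E : X.Modules, Coh.IsCoh E → TorSh.IsTorsionFree E →
      DecSh.mult k X L E = α → Curv2.euler k X E = e → ∀ (b : ℕ) (D : X.Modules) (T : DecSh.TF E a b D),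
        T.IsSemistable k L δ → ∀ P : Subobject E, Coh.IsCoh (P : X.Modules) → ¬ IsZero (P : X.Modules) →
          (subTerm k L α m E P = (α : ℚ) * (Curv2.euler k X (P : X.Modules) : ℚ) -
              (DecSh.mult k X L (P : X.Modules) : ℚ) * (e : ℚ) ∧
            (hd k (ShStab.twist X L (P : X.Modules) m) 0 : ℚ) =
              (Curv2.euler k X (ShStab.twist X L (P : X.Modules) m) : ℚ)) ∨
          subTerm k L α m E P + δ * (a : ℚ) * ((α : ℚ) - 1) + 1 ≤ 0 := by
  obtain ⟨c₁, hc₁⟩ := exists_ss_good k hdim hA hpure hδ α e a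
  obtain ⟨N, hN⟩ := exists_sub_alt k hdim hA hpure c₁ α e (δ * (a : ℚ) + 1)
  refine ⟨N, fun m hm E hE htf hα he b D T hT P hP hP0 => ?_⟩
  have h1 := mult_pos (k := k) hdim hA hpure htf P.arrow hP hP0
  have h2 := mult_le (k := k) hdim hA P.arrow hP hE
  have hα1 : (1 : ℚ) ≤ (α : ℚ) := by
    have : 1 ≤ α := by omega
    exact_mod_cast this
  rcases hN m hm E (hc₁ E hE htf hα he b D T hT) htf hα he (P : X.Modules) P.arrow inferInstance hP hP0 with h | h
  · right
    have hda : 0 ≤ δ * (a : ℚ) := mul_nonneg hδ.le (Nat.cast_nonneg a)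
    rw [subTerm, euler_shTwist hdim hA hE, he, hα]
    change (α : ℚ) * (hd k (ShStab.twist X L (P : X.Modules) m) 0 : ℚ) - _ + _ + 1 ≤ 0
    nlinarith
  · left
    refine ⟨?_, by rw [h, euler_shTwist hdim hA hP]⟩
    rw [subTerm, euler_shTwist hdim hA hE, he, hα]
    change (α : ℚ) * (hd k (ShStab.twist X L (P : X.Modules) m) 0 : ℚ) - _ = _
    rw [h]
    ring

omit hdim hA hpure in
/-- Splitting for a semistable tensor field. -/
theorem split_ss {δ : ℚ} (hδ : 0 ≤ δ) {E D : X.Modules} {a b : ℕ} (T : DecSh.TF E a b D) (hT : T.IsSemistable k L δ)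
    (𝓕 : DecSh.WFilt E) (hcoh : ∀ i, Coh.IsCoh ((𝓕.piece i : Subobject E) : X.Modules))
    (h1E : 1 ≤ DecSh.mult k X L E)
    (hle : ∀ i, DecSh.mult k X L ((𝓕.piece i : Subobject E) : X.Modules) ≤ DecSh.mult k X L E)
    (f : Fin 𝓕.t → ℚ) (S : Finset (Fin 𝓕.t))
    (hg : ∀ i ∈ S, f i ≤ (DecSh.mult k X L E : ℚ) * (Curv2.euler k X ((𝓕.piece i : Subobject E) : X.Modules) : ℚ) -
      (DecSh.mult k X L ((𝓕.piece i : Subobject E) : X.Modules) : ℚ) * (Curv2.euler k X E : ℚ))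
    (hb : ∀ i, i ∉ S → f i + δ * (a : ℚ) * ((DecSh.mult k X L E : ℚ) - 1) ≤ 0) :
    (∑ i, 𝓕.wt i * f i) + δ * T.mu k L 𝓕 ≤ 0 := by
  have hT' := hT
  unfold DecSh.TF.IsSemistable at hT'
  exact split_bound _ _ T.nv hδ hT' 𝓕 hcoh h1E hle f S hg hb

variable (k) in
/-- The three properties. -/
theorem exists_sect_iff {δ : ℚ} (hδ : 0 < δ) (α e : ℤ) (a : ℕ) :
    ∃ N₀ : ℕ, ∀ m : ℕ, N₀ ≤ m → ∀ E : X.Modules, Coh.IsCoh E → TorSh.IsTorsionFree E →
      DecSh.mult k X L E = α → Curv2.euler k X E = e → ∀ (b : ℕ) (D : X.Modules) (T : DecSh.TF E a b D),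
        (T.IsSemistable k L δ ↔ SCond k L T δ α m) ∧ (T.IsSemistable k L δ ↔ QCond k L T δ α m) ∧
          (T.IsSemistable k L δ → Subsingleton (Coh.HH X (ShStab.twist X L E m) 1)) := by
  classical
  obtain ⟨N₁, hN₁⟩ := exists_sub_terms k hdim hA hpure hδ α e a
  obtain ⟨c₁, hc₁⟩ := exists_ss_good k hdim hA hpure hδ α e a
  obtain ⟨c₂, N₂, hc₂⟩ := exists_q_good k hdim hA hpure hδ α e a
  obtain ⟨l₁, hl₁⟩ := CurveBddLib.exists_vanishing (k := k) hdim hA (min c₁ c₂) α.toNat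
  refine ⟨N₁ + N₂ + l₁, fun m hm E hE htf hα he b D T => ?_⟩
  have hαA : CurveBddLib.mult k L E ≤ ((α.toNat : ℕ) : ℚ) := by
    rw [← mult_eq hdim hA hE, hα]; exact_mod_cast Int.self_le_toNat α
  have hgood : ∀ c, (c = c₁ ∨ c = c₂) → CurveBddLib.Good k L c E → CurveBddLib.Good k L (min c₁ c₂) E := by
    rintro c hc hg
    refine ⟨hE, fun Q π hπ hQ hpos => ?_⟩
    refine le_trans (mul_le_mul_of_nonneg_right ?_ hpos.le) (hg.2 Q π hπ hQ hpos)
    rcases hc with rfl | rfl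
    · exact_mod_cast min_le_left _ _
    · exact_mod_cast min_le_right _ _
  -- the quotient expression is exact on a bounded family
  have hq : CurveBddLib.Good k L (min c₁ c₂) E → ∀ 𝓕 : DecSh.WFilt E,
      (∀ i, Coh.IsCoh ((𝓕.piece i : Subobject E) : X.Modules)) →
      (∑ i, 𝓕.wt i * ((DecSh.mult k X L (cokernel (𝓕.piece i).arrow) : ℚ) *
          (Curv2.euler k X (ShStab.twist X L E m) : ℚ) -
        (α : ℚ) * (Module.finrank k (Coh.HH X (ShStab.twist X L (cokernel (𝓕.piece i).arrow) m) 0) : ℚ))) =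
        DecSh.WFilt.chiSum k L 𝓕 := by
    intro hg 𝓕 hcoh
    unfold DecSh.WFilt.chiSum DecSh.WFilt.msum
    refine Finset.sum_congr rfl fun i _ => congrArg _ ?_
    obtain ⟨hC, hC1, hC2⟩ := coker_data (k := k) hdim hA (𝓕.piece i).arrow (hcoh i) hE
    have hv : Subsingleton (Coh.HH X ((CurveBddLib.tw L m).obj (cokernel (𝓕.piece i).arrow)) 1) := by
      refine hl₁ _ (hg.quot (cokernel.π _) hC) ?_ m (by omega)
      rw [← mult_eq hdim hA hC]
      refine le_trans ?_ (le_of_le_of_eq le_rfl (rfl : ((α.toNat : ℕ) : ℚ) = _))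
      have h3 : (0 : ℚ) ≤ (DecSh.mult k X L ((𝓕.piece i : Subobject E) : X.Modules) : ℚ) := by
        exact_mod_cast mult_nonneg (k := k) hdim hA (hcoh i)
      rw [← mult_eq hdim hA hE] at hαA
      linarith
    have h := h0_twist_exact (k := k) hdim hA hC hv
    change (Module.finrank k (Coh.HH X (ShStab.twist X L (cokernel (𝓕.piece i).arrow) m) 0) : ℚ) = _ at h
    rw [hα] at hC1
    rw [he] at hC2
    have e1 : (DecSh.mult k X L (cokernel (𝓕.piece i).arrow) : ℚ) =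
        (α : ℚ) - DecSh.mult k X L ((𝓕.piece i : Subobject E) : X.Modules) := by linarith
    have e2 : (Curv2.euler k X (cokernel (𝓕.piece i).arrow) : ℚ) =
        (e : ℚ) - Curv2.euler k X ((𝓕.piece i : Subobject E) : X.Modules) := by linarith
    rw [h, euler_shTwist hdim hA hE, e1, e2, hα, he]
    ring
  refine ⟨⟨fun hT 𝓕 hcoh => ?_, fun hS 𝓕 hcoh => ?_⟩, ⟨fun hT 𝓕 hcoh => ?_, fun hQ 𝓕 hcoh => ?_⟩, fun hT => ?_⟩
  · obtain ⟨h1E, hle⟩ := piece_facts (k := k) hdim hA hpure hE htf 𝓕 hcoh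
    let S := Finset.univ.filter fun i => subTerm k L α m E ((𝓕.piece i : Subobject E) : X.Modules) =
      (α : ℚ) * (Curv2.euler k X ((𝓕.piece i : Subobject E) : X.Modules) : ℚ) -
        (DecSh.mult k X L ((𝓕.piece i : Subobject E) : X.Modules) : ℚ) * (e : ℚ)
    refine split_ss hδ.le T hT 𝓕 hcoh h1E hle _ S
      (fun i hi => ?_) (fun i hi => ?_)
    · rw [(Finset.mem_filter.1 hi).2, hα, he]
    · rcases hN₁ m (by omega) E hE htf hα he b D T hT (𝓕.piece i) (hcoh i) (𝓕.piece_nonzero i) with h | h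
      · exact absurd ((Finset.mem_filter (a := i)).2 ⟨Finset.mem_univ i, h.1⟩) hi
      · rw [hα]
        linarith
  · refine le_trans (add_le_add ?_ le_rfl) (hS 𝓕 hcoh)
    unfold DecSh.WFilt.msum
    refine Finset.sum_le_sum fun i _ => mul_le_mul_of_nonneg_left ?_ (𝓕.wt_pos i).le
    obtain ⟨h1E, -⟩ := piece_facts (k := k) hdim hA hpure hE htf 𝓕 hcoh
    have h := h0_twist_ge hdim hA (k := k) (hcoh i) m
    rw [subTerm, euler_shTwist hdim hA hE, he, hα]
    change _ ≤ (α : ℚ) * (hd k (ShStab.twist X L ((𝓕.piece i : Subobject E) : X.Modules) m) 0 : ℚ) - _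
    have hα0 : (0 : ℚ) ≤ (α : ℚ) := by
      have : 0 ≤ α := by omega
      exact_mod_cast this
    nlinarith [mul_le_mul_of_nonneg_left h hα0]
  · rw [hq (hgood _ (Or.inl rfl) (hc₁ E hE htf hα he b D T hT)) 𝓕 hcoh]
    exact hT 𝓕 hcoh
  · have h := hQ 𝓕 hcoh
    rw [hq (hgood _ (Or.inr rfl) (hc₂ m (by omega) E hE htf hα he b D T hQ)) 𝓕 hcoh] at h
    exact h
  · exact SerreVanLib.subsingleton_HH_of_iso (HilbPolyLib.swapIso _ _) 1
      (hl₁ E (hgood _ (Or.inl rfl) (hc₁ E hE htf hα he b D T hT)) hαA m (by omega))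

variable (k) in
/-- Equality forces exact pieces. -/
theorem exists_sect_eq {δ : ℚ} (hδ : 0 < δ) (α e : ℤ) (a : ℕ) :
    ∃ N₀ : ℕ, ∀ m : ℕ, N₀ ≤ m → ∀ E : X.Modules, Coh.IsCoh E → TorSh.IsTorsionFree E →
      DecSh.mult k X L E = α → Curv2.euler k X E = e → ∀ (b : ℕ) (D : X.Modules) (T : DecSh.TF E a b D),
        T.IsSemistable k L δ → ∀ 𝓕 : DecSh.WFilt E, (∀ i, Coh.IsCoh ((𝓕.piece i : Subobject E) : X.Modules)) →
          (∑ i, 𝓕.wt i * subTerm k L α m E ((𝓕.piece i : Subobject E) : X.Modules)) + δ * T.mu k L 𝓕 = 0 →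
          ∀ i, (hd k (ShStab.twist X L ((𝓕.piece i : Subobject E) : X.Modules) m) 0 : ℚ) =
            (Curv2.euler k X (ShStab.twist X L ((𝓕.piece i : Subobject E) : X.Modules) m) : ℚ) := by
  classical
  obtain ⟨N₁, hN₁⟩ := exists_sub_terms k hdim hA hpure hδ α e a
  refine ⟨N₁, fun m hm E hE htf hα he b D T hT 𝓕 hcoh hz i₀ => ?_⟩
  obtain ⟨h1E, hle⟩ := piece_facts (k := k) hdim hA hpure hE htf 𝓕 hcoh
  by_contra hne
  let f : Fin 𝓕.t → ℚ := fun i => subTerm k L α m E ((𝓕.piece i : Subobject E) : X.Modules)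
  let S := Finset.univ.filter fun i => (hd k (ShStab.twist X L ((𝓕.piece i : Subobject E) : X.Modules) m) 0 : ℚ) =
    (Curv2.euler k X (ShStab.twist X L ((𝓕.piece i : Subobject E) : X.Modules) m) : ℚ)
  let f' : Fin 𝓕.t → ℚ := fun i => f i + if i ∈ S then 0 else 1
  have hlt : (∑ i, 𝓕.wt i * f i) < ∑ i, 𝓕.wt i * f' i := by
    refine Finset.sum_lt_sum (fun i _ => mul_le_mul_of_nonneg_left ?_ (𝓕.wt_pos i).le) ⟨i₀, Finset.mem_univ _, ?_⟩
    · simp only [f']
      split <;> linarith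
    · refine mul_lt_mul_of_pos_left ?_ (𝓕.wt_pos i₀)
      simp only [f']
      have hni : i₀ ∉ S := fun hi => hne (Finset.mem_filter.1 hi).2
      rw [if_neg hni]
      linarith
  have h : (∑ i, 𝓕.wt i * f' i) + δ * T.mu k L 𝓕 ≤ 0 := by
    refine split_ss hδ.le T hT 𝓕 hcoh h1E hle _ S
      (fun i hi => ?_) (fun i hi => ?_)
    · simp only [f', f, if_pos hi, add_zero]
      rw [subTerm, euler_shTwist hdim hA hE, he, hα]
      change (α : ℚ) * (hd k (ShStab.twist X L ((𝓕.piece i : Subobject E) : X.Modules) m) 0 : ℚ) - _ ≤ _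
      rw [(Finset.mem_filter.1 hi).2, euler_shTwist hdim hA (hcoh i)]
      exact le_of_eq (by ring)
    · rcases hN₁ m hm E hE htf hα he b D T hT (𝓕.piece i) (hcoh i) (𝓕.piece_nonzero i) with h | h
      · exact absurd ((Finset.mem_filter (a := i)).2 ⟨Finset.mem_univ i, h.2⟩) hi
      · simp only [f', f, if_neg hi]
        rw [hα]
        linarith
  simp only [f] at hlt
  linarith

end DecShLib
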