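import Groth.Agent.DecShLib.Sect2

/-!
# Boundedness of the families cut out by the sectional conditions
-/

set_option autoImplicit false
set_option linter.style.haveILetI false
set_option maxHeartbeats 1000000
universe u

open CategoryTheory CategoryTheory.Limits AlgebraicGeometry
open StabLib HilbPolyLib DevissLib

noncomputable section

namespace DecShLib

variable {k : Type u} [Field k] {X : Scheme.{u}} [X.Over (Spec (CommRingCat.of k))]
  [IsProper (X ↘ Spec (CommRingCat.of k))] [IsReduced X] (hdim : topologicalKrullDim X ≤ (1 : ℕ))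
  {L : X.Modules} (hA : CohB1.IsAmple L) (hpure : ∀ x : X, ¬ IsOpen ({x} : Set X))

include hdim hA hpure

variable (k) in
/-- The union of both families has bounded quotient slopes. -/
theorem exists_union_good {δ : ℚ} (hδ : 0 < δ) (α e : ℤ) (a : ℕ) :
    ∃ (c : ℤ) (N₁ : ℕ), ∀ E : X.Modules, Coh.IsCoh E → TorSh.IsTorsionFree E → DecSh.mult k X L E = α →
      Curv2.euler k X E = e → ∀ (b : ℕ) (D : X.Modules) (T : DecSh.TF E a b D),
        (T.IsSemistable k L δ ∨ ∃ m : ℕ, N₁ ≤ m ∧ QCond k L T δ α m) → CurveBddLib.Good k L c E := by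
  obtain ⟨c₁, hc₁⟩ := exists_ss_good k hdim hA hpure hδ α e a
  obtain ⟨c₂, N₂, hc₂⟩ := exists_q_good k hdim hA hpure hδ α e a
  refine ⟨min c₁ c₂, N₂, fun E hE htf hα he b D T hT => ⟨hE, fun Q π hπ hQ hpos => ?_⟩⟩
  rcases hT with hT | ⟨m, hm, hT⟩
  · refine le_trans (mul_le_mul_of_nonneg_right ?_ hpos.le) ((hc₁ E hE htf hα he b D T hT).2 Q π hπ hQ hpos)
    exact_mod_cast min_le_left _ _
  · refine le_trans (mul_le_mul_of_nonneg_right ?_ hpos.le) ((hc₂ m hm E hE htf hα he b D T hT).2 Q π hπ hQ hpos)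
    exact_mod_cast min_le_right _ _

variable (k) in
/-- Submodules with bounded Euler characteristic of a bounded family have bounded quotient slopes. -/
theorem exists_sub_good (c : ℤ) (α e : ℤ) (μ C : ℚ) :
    ∃ lo hi c' : ℤ, ∀ (F F' : X.Modules) (ι : F' ⟶ F), Mono ι → CurveBddLib.Good k L c F →
      TorSh.IsTorsionFree F → DecSh.mult k X L F = α → Curv2.euler k X F = e → Coh.IsCoh F' →
      |(Curv2.euler k X F' : ℚ) - (DecSh.mult k X L F' : ℚ) * μ| ≤ C →
        CurveBddLib.Good k L c' F' ∧ DecSh.mult k X L F' ≤ (α.toNat : ℤ) ∧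
          lo ≤ Curv2.euler k X F' ∧ Curv2.euler k X F' ≤ hi := by
  let A : ℕ := α.toNat
  let B : ℚ := |(e : ℚ)| + |(c : ℚ)| * (A : ℚ)
  let K : ℤ := ⌈C + (A : ℚ) * |μ|⌉
  refine ⟨-K, K, -⌈|(K : ℚ)| + B * (A : ℚ)⌉, fun F F' ι hι hg htf hα he hF' hC => ?_⟩
  haveI := hι
  have hαA : DecSh.mult k X L F ≤ (A : ℤ) := by rw [hα]; exact Int.self_le_toNat α
  have hle : DecSh.mult k X L F' ≤ (A : ℤ) := (mult_le (k := k) hdim hA ι hF' hg.1).trans hαA
  have hleq : (DecSh.mult k X L F' : ℚ) ≤ (A : ℚ) := by exact_mod_cast hle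
  have h0q : (0 : ℚ) ≤ (DecSh.mult k X L F' : ℚ) := by exact_mod_cast mult_nonneg (k := k) hdim hA hF'
  have hbd : |(Curv2.euler k X F' : ℚ)| ≤ C + (A : ℚ) * |μ| := by
    have h1 : |(DecSh.mult k X L F' : ℚ) * μ| ≤ (A : ℚ) * |μ| := by
      rw [abs_mul, abs_of_nonneg h0q]
      exact mul_le_mul_of_nonneg_right hleq (abs_nonneg _)
    have h2 := abs_sub_abs_le_abs_sub (Curv2.euler k X F' : ℚ) ((DecSh.mult k X L F' : ℚ) * μ)
    linarith
  have hK' : |(Curv2.euler k X F' : ℚ)| ≤ (K : ℚ) := hbd.trans (Int.le_ceil _)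
  obtain ⟨hlo, hhi⟩ := abs_le.1 hK'
  refine ⟨⟨hF', fun Q π hπ hQ hpos => ?_⟩, hle, ?_, ?_⟩
  · haveI := hπ
    rw [coeff_zero_eq hdim hA hQ, ← mult_eq hdim hA hQ]
    rw [← mult_eq hdim hA hQ] at hpos
    obtain ⟨hk, h1, h2⟩ := ker_data (k := k) hdim hA π hF' hQ
    have hB := subB_of_good (k := k) hdim hA hpure hg htf hαA (B := B) (by rw [he]) (kernel π)
      (kernel.ι π ≫ ι) (mono_comp _ _) hk
    have hQ1 : (1 : ℚ) ≤ (DecSh.mult k X L Q : ℚ) := by
      have : 0 < DecSh.mult k X L Q := by exact_mod_cast hpos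
      exact_mod_cast this
    have hB0 : 0 ≤ B := add_nonneg (abs_nonneg _) (mul_nonneg (abs_nonneg _) (Nat.cast_nonneg _))
    have hkA : (DecSh.mult k X L (kernel π) : ℚ) ≤ (A : ℚ) := by linarith
    have hX0 : (0 : ℚ) ≤ |(K : ℚ)| + B * (A : ℚ) := add_nonneg (abs_nonneg _) (mul_nonneg hB0 (Nat.cast_nonneg _))
    have hc : ((-⌈|(K : ℚ)| + B * (A : ℚ)⌉ : ℤ) : ℚ) ≤ -(|(K : ℚ)| + B * (A : ℚ)) := by
      push_cast
      linarith [Int.le_ceil (|(K : ℚ)| + B * (A : ℚ))]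
    have t1 := mul_le_mul_of_nonneg_right hc (le_trans zero_le_one hQ1)
    have t2 := le_mul_of_one_le_right hX0 hQ1
    have t3 := mul_le_mul_of_nonneg_left hkA hB0
    linarith [le_abs_self (K : ℚ)]
  · exact_mod_cast hlo
  · exact_mod_cast hhi

end DecShLib
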