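import Groth.Agent.DecShLib.Sect3
import Groth.Agent.DecShLib.Par

/-!
# The sectional condition for parabolic tensor fields
-/

set_option autoImplicit false
set_option linter.style.haveILetI false
set_option maxHeartbeats 1000000
universe u

open CategoryTheory CategoryTheory.Limits AlgebraicGeometry
open StabLib HilbPolyLib DevissLib

noncomputable section

namespace DecShLib

variable {k : Type u} [Field k] {X : Scheme.{u}} [X.Over (Spec (CommRingCat.of k))]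

variable (k) in
/-- The parabolic sectional expression of one piece. -/
def parTerm {ν : ℕ} (I : Fin ν → X.IdealSheafData) {E : X.Modules} (K : ∀ i, Submodule k (ParSh.fibD X (I i) E))
    (κ : Fin ν → ℚ) (L : X.Modules) (n : ℕ) (P : Subobject E) : ℚ :=
  (DecSh.mult k X L E : ℚ) *
      ((Module.finrank k (Coh.HH X (ShStab.twist X L (P : X.Modules) n) 0) : ℚ) -
        ((Curv2.euler k X (P : X.Modules) : ℚ) - DecSh.parChi k I K κ P.arrow)) -
    (DecSh.mult k X L (P : X.Modules) : ℚ) *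
      ((Curv2.euler k X (ShStab.twist X L E n) : ℚ) - ((Curv2.euler k X E : ℚ) - DecSh.parChi k I K κ (𝟙 E)))

variable [IsProper (X ↘ Spec (CommRingCat.of k))] [IsReduced X] (hdim : topologicalKrullDim X ≤ (1 : ℕ))
  {L : X.Modules} (hA : CohB1.IsAmple L) (hpure : ∀ x : X, ¬ IsOpen ({x} : Set X))

/-- Splitting for a semistable parabolic tensor field. -/
theorem split_par {ν : ℕ} (I : Fin ν → X.IdealSheafData) {E D : X.Modules}
    (K : ∀ i, Submodule k (ParSh.fibD X (I i) E)) (κ : Fin ν → ℚ) {δ : ℚ} (hδ : 0 ≤ δ) {a b : ℕ}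
    (T : DecSh.TF E a b D) (hT : T.IsParSemistable k I K κ L δ)
    (𝓕 : DecSh.WFilt E) (hcoh : ∀ i, Coh.IsCoh ((𝓕.piece i : Subobject E) : X.Modules))
    (h1E : 1 ≤ DecSh.mult k X L E)
    (hle : ∀ i, DecSh.mult k X L ((𝓕.piece i : Subobject E) : X.Modules) ≤ DecSh.mult k X L E)
    (f : Fin 𝓕.t → ℚ) (S : Finset (Fin 𝓕.t))
    (hg : ∀ i ∈ S, f i ≤ (DecSh.mult k X L E : ℚ) * DecSh.parChi k I K κ (𝓕.piece i).arrow -
      (DecSh.mult k X L ((𝓕.piece i : Subobject E) : X.Modules) : ℚ) * DecSh.parChi k I K κ (𝟙 E))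
    (hb : ∀ i, i ∉ S → f i + δ * (a : ℚ) * ((DecSh.mult k X L E : ℚ) - 1) ≤ 0) :
    (∑ i, 𝓕.wt i * f i) + δ * T.mu k L 𝓕 ≤ 0 := by
  have hT' := hT
  unfold DecSh.TF.IsParSemistable at hT'
  exact split_bound _ _ T.nv hδ hT' 𝓕 hcoh h1E hle f S hg hb

include hdim hA hpure

variable (k) in
/-- The sectional condition holds on semistable parabolic tensor fields. -/
theorem exists_par_sect {ν : ℕ} (I : Fin ν → X.IdealSheafData) (κ : Fin ν → ℚ) (hκ : ∀ i, 0 < κ i ∧ κ i < 1)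
    (δ : ℚ) (hδ : 0 < δ) (r a b : ℕ) (d : ℤ) :
    ∃ n₁ : ℕ, ∀ n : ℕ, n₁ < n → ∀ (E : X.Modules), FlatMod.IsFinLocFreeOfRank r E → Curv2.deg k X E r = d →
      ∀ (K : ∀ i, Submodule k (ParSh.fibD X (I i) E)),
        (∀ i, Module.finrank k (ParSh.fibD X (I i) E ⧸ K i) = r) →
        ∀ (D : X.Modules) (T : DecSh.TF E a b D), T.IsParSemistable k I K κ L δ →
          ∀ 𝓕 : DecSh.WFilt E, (∀ i, Coh.IsCoh ((𝓕.piece i : Subobject E) : X.Modules)) →
            (∑ i, 𝓕.wt i * parTerm k I K κ L n (𝓕.piece i)) + δ * T.mu k L 𝓕 ≤ 0 := by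
  classical
  obtain ⟨α, e, c₁, hc₁⟩ := exists_par_good k hdim hA hpure I κ hκ δ hδ r a b d
  obtain ⟨N, hN⟩ := exists_sub_alt k hdim hA hpure c₁ α e (δ * (a : ℚ) + (r : ℚ) * (ν : ℚ) + 1)
  refine ⟨N, fun n hn E hEr hdeg K hK D T hT 𝓕 hcoh => ?_⟩
  obtain ⟨hg, hα, he⟩ := hc₁ E hEr hdeg K hK D T hT
  have htf := torsionFree_of_locFree hEr
  obtain ⟨h1E, hle⟩ := piece_facts (k := k) hdim hA hpure hg.1 htf 𝓕 hcoh
  have hr : 0 < r := rank_pos k hdim hA hpure hEr (𝓕.piece ⟨0, 𝓕.t_pos⟩).arrow (hcoh _) (𝓕.piece_nonzero _)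
  let S := Finset.univ.filter fun i => parTerm k I K κ L n (𝓕.piece i) =
    (DecSh.mult k X L E : ℚ) * DecSh.parChi k I K κ (𝓕.piece i).arrow -
      (DecSh.mult k X L ((𝓕.piece i : Subobject E) : X.Modules) : ℚ) * DecSh.parChi k I K κ (𝟙 E)
  refine split_par I K κ hδ.le T hT 𝓕 hcoh h1E hle _ S (fun i hi => le_of_eq (Finset.mem_filter.1 hi).2)
    fun i hi => ?_
  rcases hN n (by omega) E hg htf hα he ((𝓕.piece i : Subobject E) : X.Modules) (𝓕.piece i).arrow inferInstance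
      (hcoh i) (𝓕.piece_nonzero i) with h | h
  · have cG := sub_parChi_nonneg (k := k) (E := E) (K := K) hκ (𝓕.piece i).arrow
    have cE := sub_parChi_le (k := k) (E := E) hκ hr hK (𝟙 E)
    have hG0 : (0 : ℚ) ≤ (DecSh.mult k X L ((𝓕.piece i : Subobject E) : X.Modules) : ℚ) := by
      exact_mod_cast mult_nonneg (k := k) hdim hA (hcoh i)
    have hGα : (DecSh.mult k X L ((𝓕.piece i : Subobject E) : X.Modules) : ℚ) ≤ (α : ℚ) := by
      rw [← hα]; exact_mod_cast hle i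
    have hα1 : (1 : ℚ) ≤ (α : ℚ) := by rw [← hα]; exact_mod_cast h1E
    have hrν : (0 : ℚ) ≤ (r : ℚ) * (ν : ℚ) := mul_nonneg (Nat.cast_nonneg r) (Nat.cast_nonneg ν)
    have hda : 0 ≤ δ * (a : ℚ) := mul_nonneg hδ.le (Nat.cast_nonneg a)
    have t1 := mul_le_mul_of_nonneg_left cE hG0
    have t2 := mul_le_mul_of_nonneg_right hGα hrν
    have t3 := mul_le_mul_of_nonneg_left cG (le_trans zero_le_one hα1)
    rw [parTerm, euler_shTwist hdim hA hg.1, hα, he]
    change (α : ℚ) * ((hd k (ShStab.twist X L ((𝓕.piece i : Subobject E) : X.Modules) n) 0 : ℚ) - _) - _ + _ ≤ 0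
    rw [he] at t1
    nlinarith
  · refine absurd ((Finset.mem_filter (a := i)).2 ⟨Finset.mem_univ i, ?_⟩) hi
    rw [parTerm, euler_shTwist hdim hA hg.1]
    change (DecSh.mult k X L E : ℚ) *
      ((hd k (ShStab.twist X L ((𝓕.piece i : Subobject E) : X.Modules) n) 0 : ℚ) - _) - _ = _
    rw [h]
    ring

end DecShLib
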